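import Mathlib
import Cfsg.Agent.H940.MaxCls
import Cfsg.Agent.H396.Crit
import Cfsg.Agent.KFacts.RgdAut

/-!
# The maximal parabolic subgroups are pairwise apart (helper744, for S5906, S5907)

`R : RGD cs h p T n X` a root group datum of a finite group `Y` with `GG cs h T X = ⊤`:
* `n_mem_PJ_iff`, `PJ_eq_top_iff`, `eq_PJ_of_B_le` : the overgroups of `B`;
* `mem_of_conj_U_le` : `U ≤ K` and `g U g⁻¹ ≤ K` imply `g ∈ K`;
* `apart_PJ` : two different maximal parabolic subgroups are `Apart`;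
* `sep_of_rgd'`, `sep_succ_of_rgd'` and the versions `sep_of_rgd`, `sep_succ_of_rgd` asked for.
-/

set_option autoImplicit false
set_option linter.unusedSectionVars false
set_option linter.unusedVariables false

namespace Cfsg.Agent.H744.SepRgd

open Cfsg.Agent.H940
open CoxeterSystem Cfsg.Agent.ChevalleyStructure.CoxeterGeom Cfsg.Agent.Tits.Roots Cfsg.Agent.Tits.Core
  Cfsg.Agent.Tits.RootComb Cfsg.Agent.Tits.Exchange Cfsg.Agent.Nodes.Reps Cfsg.Agent.Nodes.BNOf
  Cfsg.Agent.Nodes.StabComb Cfsg.Agent.Nodes.Bruhat Cfsg.Agent.Nodes.OppDec Cfsg.Agent.Nodes.LeviDec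
  Cfsg.Agent.KFacts.RgdAut Cfsg.Agent.H940.MaxCls

variable {I W Y : Type*} [Fintype I] [DecidableEq I] [Group W] [Group Y] {M : CoxeterMatrix I}
  {cs : CoxeterSystem M W} {A : I → I → ℤ} {h : IsCartan M A} {p : ℕ} {T : Subgroup Y} {n : I → Y}
  {X : (I → ℤ) → Subgroup Y}

/-- simple reflections in a parabolic subgroup of `W` -/
theorem simple_mem_WJ_iff (cs : CoxeterSystem M W) (h : IsCartan M A) {J : Set I} {i : I} :
    cs.simple i ∈ WJ cs J ↔ i ∈ J := by
  constructor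
  · intro h1
    by_contra hi
    have h2 : cs.simple i = 1 := H396.Crit.eq_one_of_mem_WJ (J := {i}) (K := J)
      (Set.disjoint_singleton_left.2 hi) h (simple_mem_WJ cs (Set.mem_singleton i)) h1
    have h3 := cs.length_simple i
    rw [h2, cs.length_one] at h3
    exact zero_ne_one h3
  · exact simple_mem_WJ cs

section

variable (R : RGD cs h p T n X)

include R

theorem n_mem_PJ_iff [Finite W] {J : Set I} {i : I} : n i ∈ PJ cs h T X J ↔ i ∈ J := by
  rw [cell_mem_PJ_iff R (cell_of_rp (rp_simple cs R.nsys i)), simple_mem_WJ_iff cs h]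

theorem PJ_univ [Finite W] (hG : GG cs h T X = ⊤) : PJ cs h T X Set.univ = ⊤ := by
  have h1 := inf_eq_PJ R (P := (⊤ : Subgroup Y)) le_top
  rw [hG, inf_top_eq] at h1
  rw [h1]
  congr 1

theorem PJ_eq_top_iff [Finite W] (hG : GG cs h T X = ⊤) {J : Set I} : PJ cs h T X J = ⊤ ↔ J = Set.univ := by
  constructor
  · intro h1
    refine Set.eq_univ_of_forall fun i => ?_
    rw [← n_mem_PJ_iff R, h1]
    exact Subgroup.mem_top _
  · rintro rfl
    exact PJ_univ R hG

/-- the overgroups of `B` are the parabolic subgroups -/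
theorem eq_PJ_of_B_le [Finite W] (hG : GG cs h T X = ⊤) {K : Subgroup Y} (hK : RGD.B cs h T X ≤ K) :
    K = PJ cs h T X {i | n i ∈ K} := by
  have h1 := inf_eq_PJ R hK
  rwa [hG, inf_top_eq] at h1

/-- a subgroup `K` containing `U` and `g U g⁻¹`: some `k ∈ K` takes `g U g⁻¹` to `U`, so `k g ∈ B` -/
theorem exists_mul_mem_B [Finite W] [Finite Y] [Fact p.Prime] (hG : GG cs h T X = ⊤) {K : Subgroup Y} {g : Y}
    (hU : RGD.Sup X (RGD.Pos cs h) ≤ K) (hg : ∀ x ∈ RGD.Sup X (RGD.Pos cs h), g * x * g⁻¹ ∈ K) :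
    ∃ k ∈ K, k * g ∈ RGD.B cs h T X := by
  set U : Subgroup Y := RGD.Sup X (RGD.Pos cs h) with hUdef
  have hpU : IsPGroup p ↥U := R.isPGroup_Upos
  have hndvd : ¬ p ∣ U.index := by
    have := KFacts.RgdSyl.not_dvd_relIndex R
    rwa [hG, Subgroup.relIndex_top_right] at this
  have key : ∀ V : Subgroup Y, V ≤ K → Nat.card V = Nat.card U → IsPGroup p ↥V →
      ∃ P : Sylow p K, (P : Subgroup K) = V.subgroupOf K := by
    intro V hV hc hpV
    have h1 : IsPGroup p ↥(V.subgroupOf K) :=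
      hpV.of_equiv (Subgroup.subgroupOfEquivOfLe hV).symm
    have h2 : ¬ p ∣ (V.subgroupOf K).index := by
      intro hd
      apply hndvd
      have h3 : V.relIndex K * K.index = V.index := Subgroup.relIndex_mul_index hV
      have h4 : V.index = U.index := by
        have e1 := V.card_mul_index
        have e2 := U.card_mul_index
        rw [hc] at e1
        exact Nat.eq_of_mul_eq_mul_left Nat.card_pos (e1.trans e2.symm)
      rw [← h4, ← h3]
      exact Dvd.dvd.mul_right hd _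
    exact ⟨h1.toSylow h2, rfl⟩
  have hgU : cj g U ≤ K := by
    intro x hx
    rw [mem_cj] at hx
    have h1 := hg _ hx
    have e : g * (g⁻¹ * x * g) * g⁻¹ = x := by group
    rwa [e] at h1
  obtain ⟨P, hP⟩ := key U hU rfl hpU
  obtain ⟨Q, hQ⟩ := key (cj g U) hgU
    (Nat.card_congr (Subgroup.equivMapOfInjective U (MulAut.conj g).toMonoidHom (MulAut.conj g).injective).toEquiv.symm)
    (hpU.map (MulAut.conj g).toMonoidHom)
  obtain ⟨k, hk⟩ := MulAction.exists_smul_eq K Q P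
  refine ⟨(k : Y), k.2, ?_⟩
  rw [← normalizer_U' R hG, ← hUdef]
  -- `(k g) U (k g)⁻¹ = U`
  have hle : ∀ x ∈ U, (k : Y) * g * x * ((k : Y) * g)⁻¹ ∈ U := by
    intro x hx
    have h1 : g * x * g⁻¹ ∈ cj g U := by
      rw [mem_cj]
      have e : g⁻¹ * (g * x * g⁻¹) * g = x := by group
      rwa [e]
    have h2 : (⟨g * x * g⁻¹, hgU h1⟩ : K) ∈ (Q : Subgroup K) := by
      rw [hQ, Subgroup.mem_subgroupOf]
      exact h1
    have h3 : k * ⟨g * x * g⁻¹, hgU h1⟩ * k⁻¹ ∈ ((k • Q : Sylow p K) : Subgroup K) := by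
      rw [Sylow.coe_subgroup_smul]
      exact Subgroup.smul_mem_pointwise_smul _ (MulAut.conj k) _ h2
    rw [hk, hP, Subgroup.mem_subgroupOf] at h3
    have e : (k : Y) * g * x * ((k : Y) * g)⁻¹ = (k : Y) * (g * x * g⁻¹) * (k : Y)⁻¹ := by group
    rw [e]
    exact h3
  have heq : U.map (MulAut.conj ((k : Y) * g)).toMonoidHom = U := by
    refine Subgroup.eq_of_le_of_card_ge ?_ ?_
    · rintro _ ⟨x, hx, rfl⟩
      exact hle x hx
    · rw [Nat.card_congr (Subgroup.equivMapOfInjective U (MulAut.conj ((k : Y) * g)).toMonoidHom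
        (MulAut.conj ((k : Y) * g)).injective).toEquiv]
  rw [Subgroup.mem_normalizer_iff]
  intro x
  constructor
  · exact hle x
  · intro hx
    rw [← heq] at hx
    obtain ⟨y, hy, e⟩ := hx
    have e2 : y = x := by
      apply (MulAut.conj ((k : Y) * g)).injective
      exact e
    rwa [← e2]

theorem mem_of_conj_le [Finite W] [Finite Y] [Fact p.Prime] (hG : GG cs h T X = ⊤) {K : Subgroup Y} {g : Y}
    (hB : RGD.B cs h T X ≤ K) (hg : ∀ x ∈ RGD.Sup X (RGD.Pos cs h), g * x * g⁻¹ ∈ K) : g ∈ K := by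
  obtain ⟨k, hk, h1⟩ := exists_mul_mem_B R hG (RGD.U_le_B.trans hB) hg
  have h2 := mul_mem (inv_mem hk) (hB h1)
  have e : k⁻¹ * (k * g) = g := by group
  rwa [e] at h2

/-- **two parabolic subgroups** `P_J`, `P_K` with `J ∪ K = I` are apart -/
theorem apart_PJ [Finite W] [Finite Y] [Fact p.Prime] (hG : GG cs h T X = ⊤) {J K : Set I}
    (hJK : J ∪ K = Set.univ) : Apart (PJ cs h T X J) (PJ cs h T X K) := by
  intro g H h1 h2
  have hB : RGD.B cs h T X ≤ H := B_le_PJ.trans h1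
  have hg : g ∈ H := mem_of_conj_le R hG hB fun x hx => h2 x (B_le_PJ (RGD.U_le_B hx))
  have h3 : PJ cs h T X K ≤ H := by
    intro x hx
    have h4 := mul_mem (mul_mem (inv_mem hg) (h2 x hx)) hg
    have e : g⁻¹ * (g * x * g⁻¹) * g = x := by group
    rwa [e] at h4
  rw [eq_PJ_of_B_le R hG hB, PJ_eq_top_iff R hG]
  refine Set.eq_univ_of_forall fun i => ?_
  have hi : i ∈ J ∪ K := by rw [hJK]; trivial
  rcases hi with hi | hi
  · exact h1 ((n_mem_PJ_iff R).2 hi)
  · exact h3 ((n_mem_PJ_iff R).2 hi)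

/-- a parabolic subgroup is apart from a subgroup which is not conjugate into a proper parabolic subgroup -/
theorem apart_PJ_of_not_le [Finite W] [Finite Y] (hG : GG cs h T X = ⊤) {J : Set I} {D : Subgroup Y}
    (hD' : ∀ (g : Y) (K : Set I), K ≠ Set.univ → ¬ (cj g D ≤ PJ cs h T X K)) :
    Apart (PJ cs h T X J) D := by
  intro g H h1 h2
  by_contra hH
  have hB : RGD.B cs h T X ≤ H := B_le_PJ.trans h1
  have h3 := eq_PJ_of_B_le R hG hB
  refine hD' g {i | n i ∈ H} (fun h4 => hH ?_) ?_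
  · rw [h3, PJ_eq_top_iff R hG]
    exact h4
  · rw [← h3]
    intro x hx
    rw [mem_cj] at hx
    have h4 := h2 _ hx
    have e : g * (g⁻¹ * x * g) * g⁻¹ = x := by group
    rwa [e] at h4

/-- the maximal parabolic subgroups -/
noncomputable def mp (cs : CoxeterSystem M W) (h : IsCartan M A) (T : Subgroup Y) (X : (I → ℤ) → Subgroup Y)
    (i : Fin (Fintype.card I)) : Subgroup Y :=
  PJ cs h T X (Set.univ \ {(Fintype.equivFin I).symm i})

theorem mp_ne_top [Finite W] (hG : GG cs h T X = ⊤) (i : Fin (Fintype.card I)) : mp cs h T X i ≠ ⊤ := by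
  unfold mp
  intro h1
  rw [PJ_eq_top_iff R hG] at h1
  have h2 : (Fintype.equivFin I).symm i ∈ (Set.univ \ {(Fintype.equivFin I).symm i} : Set I) := by
    rw [h1]; trivial
  exact h2.2 rfl

theorem apart_mp [Finite W] [Finite Y] [Fact p.Prime] (hG : GG cs h T X = ⊤) {i j : Fin (Fintype.card I)}
    (hij : i ≠ j) : Apart (mp cs h T X i) (mp cs h T X j) := by
  unfold mp
  refine apart_PJ R hG (Set.eq_univ_of_forall fun x => ?_)
  by_cases hx : x = (Fintype.equivFin I).symm i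
  · right
    refine ⟨trivial, ?_⟩
    rw [Set.mem_singleton_iff, hx]
    exact fun h1 => hij ((Fintype.equivFin I).symm.injective h1)
  · left
    exact ⟨trivial, hx⟩

theorem sep_of_rgd' [Finite W] [Finite Y] [Fact p.Prime] (hG : GG cs h T X = ⊤) : MaxCls.Sep (Fintype.card I) Y :=
  ⟨mp cs h T X, mp_ne_top R hG, fun _ _ hij => apart_mp R hG hij.ne⟩

theorem sep_succ_of_rgd' [Finite W] [Finite Y] [Fact p.Prime] (hG : GG cs h T X = ⊤) {D : Subgroup Y}
    (hD : D ≠ ⊤) (hD' : ∀ (g : Y) (K : Set I), K ≠ Set.univ → ¬ (cj g D ≤ PJ cs h T X K)) :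
    MaxCls.Sep (Fintype.card I + 1) Y :=
  Sep.snoc (mp_ne_top R hG) (fun _ _ hij => apart_mp R hG hij.ne) hD fun _ => apart_PJ_of_not_le R hG hD'

end

/-- **as many classes of maximal subgroups as nodes** -/
theorem sep_of_rgd [Finite W] [Finite Y] [IsSimpleGroup Y] [Fact p.Prime] (R : RGD cs h p T n X)
    (hG : GG cs h T X = ⊤) (hc : ∃ a b : Y, a * b ≠ b * a) : MaxCls.Sep (Fintype.card I) Y :=
  sep_of_rgd' R hG

/-- **one more** -/
theorem sep_succ_of_rgd [Finite W] [Finite Y] [IsSimpleGroup Y] [Fact p.Prime] (R : RGD cs h p T n X)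
    (hG : GG cs h T X = ⊤) (hc : ∃ a b : Y, a * b ≠ b * a) {D : Subgroup Y} (hD : D ≠ ⊤)
    (hD' : ∀ (g : Y) (K : Set I), K ≠ Set.univ → ¬ (cj g D ≤ PJ cs h T X K)) :
    MaxCls.Sep (Fintype.card I + 1) Y :=
  sep_succ_of_rgd' R hG hD hD'

end Cfsg.Agent.H744.SepRgd
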