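import Cfsg.Agent.H331.BFSemi
import Cfsg.Agent.ChevalleyStructure.B2Sp4
import Cfsg.Agent.S1082

/-!
# The general Brauer-Fowler bound for `PSp₄(2^f)` and `PΩ₈⁺(q)` from Chevalley groups (S3291, task 225)
-/

set_option autoImplicit false

namespace Cfsg.Agent.H744.BFIso

open Cfsg.Agent.H331.BF

theorem bdd_psp4_even (n k : ℕ) (hn : 0 < n)
    (hC : ∃ B : ℕ, ∀ D ∈ [Cfsg.Lie.chevB2, Cfsg.Lie.chevD4], ∀ (F : Type) [Field F] [Finite F], Bdd n k B (D.group F)) :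
    ∃ B : ℕ, ∀ (F : Type) [Field F] [Fintype F], ringChar F = 2 → 3 ≤ Fintype.card F → Bdd n k B (Cfsg.PSp 2 F) := by
  obtain ⟨B, hB⟩ := hC
  refine ⟨B, fun F _ _ _ _ => ?_⟩
  obtain ⟨e⟩ := Cfsg.Agent.ChevalleyStructure.B2Sp4.chevB2_equiv_PSp F
  exact (hB Cfsg.Lie.chevB2 (by simp) F).of_mulEquiv e.symm

theorem bdd_omegaPlus8 (n k : ℕ) (hn : 0 < n)
    (hC : ∃ B : ℕ, ∀ D ∈ [Cfsg.Lie.chevB2, Cfsg.Lie.chevD4], ∀ (F : Type) [Field F] [Finite F], Bdd n k B (D.group F)) :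
    ∃ B : ℕ, ∀ (F : Type) [Field F] [Fintype F], Bdd n k B (Cfsg.POmega F (Cfsg.quadFormPlus 4 F)) := by
  obtain ⟨B, hB⟩ := hC
  refine ⟨B, fun F _ _ => ?_⟩
  obtain ⟨e⟩ := Cfsg.Agent.S1082.result (F := F)
  exact (hB Cfsg.Lie.chevD4 (by simp) F).of_mulEquiv e.symm

end Cfsg.Agent.H744.BFIso
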