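import Cfsg.Agent.H72.Task106
import Cfsg.Agent.H377.OddThree
import Cfsg.Agent.H402.Rec.Cand

/-!
# S3456: the rows of the orthogonal groups (helper744, for helper402)

`S` is a simple group with `Cand3 e k S` (see `H402/Rec/Cand.lean`); `podd`, `pplus`, `pminus`: `S` is not
`PΩ_{2m+1}(q)`, `PΩ⁺_{2m}(q)`, `PΩ⁻_{2m}(q)` in characteristic different from 3.

Exactly one class of primes is not joined to 3; elements of order `9 k`, `k > 1`, exist except for `q = 2`, `m = 4`.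
-/

set_option autoImplicit false
set_option linter.unusedSectionVars false

namespace Cfsg.Agent.H744.Rec

open Cfsg Cfsg.Agent.H402.Rec Cfsg.Agent.H377 Cfsg.Agent.H72.AdjOrth Cfsg.Agent.H72.AdjCoc

section small

variable {e : Bool} {k : ℕ} {S : Type*} [Group S]

theorem R3_mod (e : Bool) {k : ℕ} (hk : 1 ≤ k) (he : e = false → 2 ≤ k) : ¬ R3 e (3 ^ k) ∣ 2975 := by
  intro h
  have h1 := Nat.le_of_dvd (by norm_num) h
  have hk3 : k ≤ 3 := by
    by_contra hcon
    have h2 : 3 ^ 4 ≤ 3 ^ k := Nat.pow_le_pow_right (by norm_num) (by omega)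
    generalize 3 ^ k = q at h1 h2
    have h3 : 81 * q ≤ q ^ 2 := by rw [pow_two]; exact Nat.mul_le_mul_right _ h2
    cases e
    · change q ^ 2 - q + 1 ≤ 2975 at h1
      omega
    · change q ^ 2 + q + 1 ≤ 2975 at h1
      omega
  clear h1
  cases e
  · have := he rfl
    interval_cases k <;> revert h <;> decide
  · interval_cases k <;> revert h <;> decide

theorem R4_mod {k : ℕ} (hk : 1 ≤ k) (h : R4 (3 ^ k) ∣ 2975) : k = 1 := by
  have h1 := Nat.le_of_dvd (by norm_num) h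
  have hk3 : k ≤ 3 := by
    by_contra hcon
    have h2 : 3 ^ 4 ≤ 3 ^ k := Nat.pow_le_pow_right (by norm_num) (by omega)
    generalize 3 ^ k = q at h1 h2
    have h3 : 81 * q ≤ q ^ 2 := by rw [pow_two]; exact Nat.mul_le_mul_right _ h2
    change (q ^ 2 + 1) / 2 ≤ 2975 at h1
    omega
  clear h1
  interval_cases k
  · rfl
  · revert h; decide
  · revert h; decide

/-- the small cases `PSp₆(2)`, `PΩ⁺₈(2)`, `PΩ⁻₈(2)` -/
theorem small [Finite S] (h : Cand3 e k S) (h7 : 7 ∣ Nat.card S)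
    (hM : Nat.card S ∣ 2 ^ 12 * 3 ^ 5 * 2975) : False := by
  have key : ∀ R : ℕ, R % 2 = 1 → ¬ 3 ∣ R → (∃ x : S, orderOf x = R) → R ∣ 2975 := by
    rintro R h2 h3 ⟨x, rfl⟩
    have h4 : orderOf x ∣ 2 ^ 12 * 3 ^ 5 * 2975 := (orderOf_dvd_natCard x).trans hM
    have h5 : Nat.Coprime (orderOf x) (2 ^ 12 * 3 ^ 5) := by
      refine Nat.Coprime.mul_right (Nat.Coprime.pow_right _ ?_) (Nat.Coprime.pow_right _ ?_)
      · exact Nat.coprime_two_right.2 (Nat.odd_iff.2 h2)
      · exact ((Nat.Prime.coprime_iff_not_dvd Nat.prime_three).2 h3).symm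
    exact h5.dvd_of_dvd_mul_left h4
  have hR3 : ¬ ∃ x : S, orderOf x = R3 e (3 ^ k) := by
    intro h1
    refine R3_mod e h.hk h.hk2 (key _ (R3_odd e h.odd) ?_ h1)
    have := not_three_R3 e h.mod_three h.one_le
    omega
  have hk : k = 1 := by
    have h1 : ∃ x : S, orderOf x = R4 (3 ^ k) := by
      rcases h.alt with ⟨h1, -⟩ | ⟨-, h1 | h1⟩
      · exact absurd h1 hR3
      · exact absurd h1 hR3
      · exact h1
    exact R4_mod h.hk (key _ (R4_odd h.odd) (not_three_R4 h.mod_three h.odd) h1)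
  have he : e = true := by
    by_contra hcon
    have := h.hk2 (by simpa using hcon)
    omega
  subst hk
  subst he
  have : Fact (Nat.Prime 7) := ⟨by norm_num⟩
  obtain ⟨x, hx⟩ := exists_prime_orderOf_dvd_card' (G := S) 7 h7
  have h1 := h.spec x
  rw [hx] at h1
  revert h1
  decide

theorem nine_false (h : Cand3 e k S) {N : ℕ} (h9 : 9 ∣ N) (hN : N ≠ 9) : ¬ ∃ x : S, orderOf x = N := by
  rintro ⟨x, rfl⟩
  exact hN (h.nine h9)

end small

section arith

theorem mod_nine {q : ℕ} (hq : ¬ 3 ∣ q) : (9 ∣ q ^ 1 - 1 ∨ 9 ∣ q ^ 1 + 1) ∨ 9 ∣ q ^ 3 - 1 ∨ 9 ∣ q ^ 3 + 1 := by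
  have h1 : q % 9 = 1 ∨ q % 9 = 2 ∨ q % 9 = 4 ∨ q % 9 = 5 ∨ q % 9 = 7 ∨ q % 9 = 8 := by omega
  have h3 : q ^ 3 % 9 = (q % 9) ^ 3 % 9 := Nat.pow_mod _ _ _
  rw [pow_one]
  rcases h1 with h1 | h1 | h1 | h1 | h1 | h1 <;> rw [h1] at h3 <;> norm_num at h3 <;> omega

theorem mod_three {q : ℕ} (hq : ¬ 3 ∣ q) : q % 3 = 1 ∨ q % 3 = 2 := by omega

theorem pow_mod_three_one {q : ℕ} (h : q % 3 = 1) (j : ℕ) : q ^ j % 3 = 1 := by
  rw [Nat.pow_mod, h, one_pow]
  rfl

theorem pow_mod_three_two {q : ℕ} (h : q % 3 = 2) {j : ℕ} (hj : Odd j) : q ^ j % 3 = 2 := by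
  obtain ⟨i, rfl⟩ := hj
  rw [pow_add, pow_mul, pow_one, Nat.mul_mod, h]
  have h1 : q ^ 2 % 3 = 1 := by rw [Nat.pow_mod, h]
  rw [pow_mod_three_one h1]

/-- `3` divides the order of the torus of type `k` -/
theorem three_dvd_tn {q κ : ℕ} (h : (Odd κ ∧ q % 3 = 1) ∨ (Even κ ∧ Odd (κ / 2) ∧ q % 3 = 2)) :
    3 ∣ tn q κ := by
  rw [tn]
  rcases h with ⟨h1, h2⟩ | ⟨h1, h2, h3⟩
  · rw [if_neg (Nat.not_even_iff_odd.2 h1)]
    have := pow_mod_three_one h2 κ
    omega
  · rw [if_pos h1]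
    have := pow_mod_three_two h3 h2
    omega

end arith

section elts

variable {F : Type*} [Field F] [Finite F]

theorem eta_three (h3 : ¬ 3 ∣ Nat.card F) : eta (ee (Nat.card F) 3) = 1 := by
  have h1 : 1 ≤ eta (ee (Nat.card F) 3) := eta_pos (ee_pos Nat.prime_three h3)
  have h2 : 3 ∣ Nat.card F ^ (2 * 1) - 1 := by
    rcases mod_three h3 with h | h
    · have := pow_mod_three_one h (2 * 1)
      omega
    · have h4 : Nat.card F ^ (2 * 1) % 3 = 1 := by rw [Nat.pow_mod, h]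
      omega
  have h4 := eta_two_mul (Nat.card_pos : 1 ≤ Nat.card F) (i := 1) le_rfl h2
  omega

theorem wO_three (h3 : ¬ 3 ∣ Nat.card F) : wO (Nat.card F) 3 = 1 := by
  rw [wO, if_neg (by rw [not_or]; exact ⟨by norm_num, h3⟩), eta_three h3]

/-- the torus of dimension 2 with elements of order 3 -/
theorem elt_three (h3 : ¬ 3 ∣ Nat.card F) : Elt F 1 (if Nat.card F % 3 = 1 then 1 else -1) 3 := by
  rcases mod_three h3 with h | h
  · rw [if_pos h]
    refine elt_tor_plus le_rfl ?_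
    rw [pow_one]; omega
  · rw [if_neg (by omega)]
    refine elt_tor_minus le_rfl ?_
    rw [pow_one]; omega

theorem lcm_three {r : ℕ} (hr : r.Prime) (hr5 : 5 ≤ r) : Nat.lcm r 3 = 3 * r := by
  rw [mul_comm]
  exact Nat.Coprime.lcm_eq_mul ((Nat.coprime_primes hr Nat.prime_three).2 (by omega))

/-- The unique class of the primes not joined to 3. -/
theorem class_eq {m : ℕ} {δ : ℤ} (hδ : δ = 1 ∨ δ = -1) (hm : 4 ≤ m) (h3 : ¬ 3 ∣ Nat.card F) {r : ℕ} (hr : r.Prime)
    (hr5 : 5 ≤ r) (hrF : ¬ r ∣ Nat.card F)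
    (hcl : eta (ee (Nat.card F) r) < m ∨ (eta (ee (Nat.card F) r) = m ∧ sg (ee (Nat.card F) r) = δ))
    (hn : ¬ Elt2 F m δ (3 * r)) :
    ee (Nat.card F) r = if δ = 1 then (if Nat.card F % 3 = 1 then 2 * (m - 1) else if Even m then m - 1 else m)
      else (if Nat.card F % 3 = 2 ∧ Odd m then 2 * (m - 1) else 2 * m) := by
  have hodd : Odd (3 * r) := (by decide : Odd 3).mul (hr.odd_of_ne_two (by omega))
  have hn' : ¬ Elt F m δ (3 * r) := fun h => hn (Elt.two (by omega) hodd h)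
  have hκ := ee_pos hr hrF
  have hE := elt_of_prime (F := F) hr hrF
  have hT := dvd_tn (q := Nat.card F) card_pos' hr hrF
  -- the weight
  have h1 : m - 1 ≤ eta (ee (Nat.card F) r) := by
    by_contra hcon
    refine hn (elt2_of_wO hδ Nat.prime_three hr (by omega) ?_)
    rw [wO_three h3, wO, if_neg (by rw [not_or]; exact ⟨by omega, hrF⟩)]
    omega
  -- joined inside the torus
  have h2 : ¬ ((Odd (ee (Nat.card F) r) ∧ Nat.card F % 3 = 1) ∨
      (Even (ee (Nat.card F) r) ∧ Odd (ee (Nat.card F) r / 2) ∧ Nat.card F % 3 = 2)) := by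
    intro h
    have h4 := three_dvd_tn h
    have h5 := elt_tn (F := F) hκ
      (((Nat.coprime_primes Nat.prime_three hr).2 (by omega)).mul_dvd_of_dvd_of_dvd h4 hT)
    rcases hcl with h6 | ⟨h6, h7⟩
    · exact hn' (elt_extend h5 (sg_pm _) hδ h6)
    · rw [h6, h7] at h5
      exact hn' h5
  -- joined with the complementary plane
  have h4 : eta (ee (Nat.card F) r) = m - 1 →
      sg (ee (Nat.card F) r) * (if Nat.card F % 3 = 1 then 1 else -1) ≠ δ := by
    intro h5 h6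
    have h7 := hE.prod (elt_three h3)
    rw [h5, h6, show m - 1 + 1 = m by omega, lcm_three hr hr5] at h7
    exact hn' h7
  generalize ee (Nat.card F) r = κ at h1 h2 h4 hcl hκ
  have hc := mod_three h3
  generalize Nat.card F = c at h2 h4 hc
  rw [eta] at h1 h4 hcl
  rw [sg] at h4 hcl
  by_cases hev : Even κ
  · rw [if_pos hev] at h1 h4 hcl
    rw [if_pos hev] at h4 hcl
    obtain ⟨j, rfl⟩ := hev
    have hj : (j + j) / 2 = j := by omega
    rw [hj] at h1 h2 h4 hcl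
    have h2' : ¬ (Odd j ∧ c % 3 = 2) := fun h => h2 (Or.inr ⟨⟨j, rfl⟩, h⟩)
    rcases hδ with rfl | rfl
    · rw [if_pos rfl]
      have hjm : j = m - 1 := by
        rcases hcl with h | ⟨-, h⟩
        · omega
        · norm_num at h
      rcases hc with hc | hc
      · rw [if_pos hc]; omega
      · exfalso
        refine h4 hjm ?_
        rw [if_neg (by omega)]; norm_num
    · rw [if_neg (by norm_num)]
      rcases Nat.lt_or_ge j m with hjm | hjm
      · have hjm' : j = m - 1 := by omega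
        have hc2 : c % 3 = 2 := by
          rcases hc with hc | hc
          · exfalso
            refine h4 hjm' ?_
            rw [if_pos hc]; norm_num
          · exact hc
        have hjo : ¬ Odd j := fun h => h2' ⟨h, hc2⟩
        rw [Nat.not_odd_iff_even] at hjo
        have hmo : Odd m := by
          obtain ⟨i, hi⟩ := hjo
          exact ⟨i, by omega⟩
        rw [if_pos ⟨hc2, hmo⟩]; omega
      · have hjm' : j = m := by
          rcases hcl with h | ⟨h, -⟩
          · omega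
          · exact h
        subst hjm'
        rw [if_neg (fun h => h2' ⟨h.2, h.1⟩)]
        omega
  · rw [if_neg hev] at h1 h4 hcl
    rw [if_neg hev] at h4 hcl
    rw [Nat.not_even_iff_odd] at hev
    have hc2 : c % 3 = 2 := by
      rcases hc with hc | hc
      · exact absurd (Or.inl ⟨hev, hc⟩) h2
      · exact hc
    rcases hδ with rfl | rfl
    · rw [if_pos rfl, if_neg (by omega)]
      rcases Nat.lt_or_ge κ m with hjm | hjm
      · have h5 : κ = m - 1 := by omega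
        have h6 : Even m := by
          obtain ⟨i, hi⟩ := hev
          exact ⟨i + 1, by omega⟩
        rw [if_pos h6, h5]
      · have h5 : κ = m := by
          rcases hcl with h | ⟨h, -⟩
          · omega
          · exact h
        rw [if_neg (by rw [Nat.not_even_iff_odd, ← h5]; exact hev), h5]
    · exfalso
      rcases hcl with h | ⟨-, h⟩
      · refine h4 (by omega) ?_
        rw [if_neg (by omega)]; norm_num
      · norm_num at h

/-- **first alternative of `Cand3.split`**, even dimension -/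
theorem first_even {G : Type*} [Group G] [Finite G] {m : ℕ} {δ : ℤ} (hδ : δ = 1 ∨ δ = -1) (hm : 4 ≤ m)
    (h3 : ¬ 3 ∣ Nat.card F)
    (hE : ∀ N, Elt2 F m δ N → ∃ g : G, orderOf g = N)
    (hcl : ∀ s : ℕ, s.Prime → s ≠ 2 → ¬ s ∣ Nat.card F → s ∣ Nat.card G →
      eta (ee (Nat.card F) s) < m ∨ (eta (ee (Nat.card F) s) = m ∧ sg (ee (Nat.card F) s) = δ))
    {r s : ℕ} (hr : r.Prime) (hs : s.Prime) (hrs : r ≠ s) (hr5 : 5 ≤ r) (hs5 : 5 ≤ s)
    (hxr : ∃ x : G, orderOf x = r) (hxs : ∃ x : G, orderOf x = s)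
    (h3r : ∀ x : G, orderOf x ≠ 3 * r) (h3s : ∀ x : G, orderOf x ≠ 3 * s) (hrs' : ∀ x : G, orderOf x ≠ r * s) :
    False := by
  classical
  have := Fintype.ofFinite F
  have key : ∀ t : ℕ, t.Prime → 5 ≤ t → (∃ x : G, orderOf x = t) → (∀ x : G, orderOf x ≠ 3 * t) →
      ¬ t ∣ Nat.card F ∧ t ∣ Nat.card G := by
    intro t ht ht5 hxt h3t
    refine ⟨fun h => ?_, ?_⟩
    · obtain ⟨p, hp, hpF, hpu⟩ := prime_dvd_card F
      have htp := hpu t ht h
      subst htp
      have h1 : Elt2 F m δ (t * 3) := Cfsg.Agent.H72.Task106.elt2_char hp (by omega) hδ Nat.prime_three (by norm_num)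
        (by omega) (by rw [eta_three h3]; omega)
      obtain ⟨g, hg⟩ := hE _ h1
      exact h3t g (by rw [hg, mul_comm])
    · obtain ⟨x, rfl⟩ := hxt
      exact orderOf_dvd_natCard x
  obtain ⟨hrF, hrG⟩ := key r hr hr5 hxr h3r
  obtain ⟨hsF, hsG⟩ := key s hs hs5 hxs h3s
  have h1 := class_eq hδ hm h3 hr hr5 hrF (hcl r hr (by omega) hrF hrG) (fun h => by
    obtain ⟨g, hg⟩ := hE _ h
    exact h3r g hg)
  have h2 := class_eq hδ hm h3 hs hs5 hsF (hcl s hs (by omega) hsF hsG) (fun h => by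
    obtain ⟨g, hg⟩ := hE _ h
    exact h3s g hg)
  obtain ⟨g, hg⟩ := hE _ (elt2_of_ee hδ (by omega) hr hs (by omega) (by omega) hrs hrF hsF (h1.trans h2.symm)
    (hcl r hr (by omega) hrF hrG))
  exact hrs' g hg

/-- elements of order `9 k`, `k > 1`, even dimension -/
theorem nine_even {m : ℕ} {δ : ℤ} (hδ : δ = 1 ∨ δ = -1) (hm : 4 ≤ m) (h3 : ¬ 3 ∣ Nat.card F)
    (hne : ¬ (m = 4 ∧ Nat.card F = 2)) : ∃ N, 9 ∣ N ∧ N ≠ 9 ∧ Elt2 F m δ N := by
  have hq2 : 2 ≤ Nat.card F := Finite.one_lt_card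
  have key : ∀ i : ℕ, ∀ ε : ℤ, 1 ≤ i → i + 2 ≤ m → (ε = 1 ∨ ε = -1) → Elt F i ε 9 →
      ∃ N, 9 ∣ N ∧ N ≠ 9 ∧ Elt2 F m δ N := by
    intro i ε hi him hε h
    refine ⟨18, by norm_num, by norm_num, ?_⟩
    have h1 := Elt.prod_two hi (by decide) h (elt_four (F := F) (n := m - i) (by omega) (mul_pm hε hδ)) ⟨2, rfl⟩
    rw [← mul_assoc, sq_pm hε, one_mul, show i + (m - i) = m by omega] at h1
    exact h1
  rcases mod_nine h3 with (h | h) | h
  · exact key 1 1 le_rfl (by omega) (Or.inl rfl) (elt_tor_plus le_rfl h)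
  · exact key 1 (-1) le_rfl (by omega) (Or.inr rfl) (elt_tor_minus le_rfl h)
  obtain ⟨ε, M, hε, hM9, hMpar, hMge, hME⟩ : ∃ (ε : ℤ) (M : ℕ), (ε = 1 ∨ ε = -1) ∧ 9 ∣ M ∧
      (Nat.card F % 2 = 1 ↔ M % 2 = 0) ∧ (Nat.card F ≠ 2 → 63 ≤ M) ∧ Elt F 3 ε M := by
    have hpar : (Nat.card F ^ 3) % 2 = Nat.card F % 2 := by
      rw [Nat.pow_mod]
      rcases Nat.mod_two_eq_zero_or_one (Nat.card F) with h | h <;> rw [h]
    have hge : Nat.card F ≠ 2 → 64 ≤ Nat.card F ^ 3 := by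
      intro h1
      have h2 : Nat.card F ≠ 3 := by
        intro h2; exact h3 (by rw [h2])
      calc 64 = 4 ^ 3 := by norm_num
        _ ≤ Nat.card F ^ 3 := Nat.pow_le_pow_left (by omega) 3
    have h1 : 1 ≤ Nat.card F ^ 3 := Nat.one_le_pow _ _ (by omega)
    rcases h with h | h
    · refine ⟨1, Nat.card F ^ 3 - 1, Or.inl rfl, h, ?_, fun h2 => ?_, elt_tor_plus (by norm_num) dvd_rfl⟩
      · omega
      · have := hge h2; omega
    · refine ⟨-1, Nat.card F ^ 3 + 1, Or.inr rfl, h, ?_, fun h2 => ?_, elt_tor_minus (by norm_num) dvd_rfl⟩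
      · omega
      · have := hge h2; omega
  rcases Nat.lt_or_ge m 5 with hm5 | hm5
  · have hm4 : m = 4 := by omega
    subst hm4
    have hF2 : Nat.card F ≠ 2 := fun h => hne ⟨rfl, h⟩
    have hM63 := hMge hF2
    rcases Nat.mod_two_eq_zero_or_one M with hpar | hpar
    · refine ⟨M / 2, by omega, ?_, ?_⟩
      · intro h; omega
      · have h1 := hME.add_two (n₂ := 1) le_rfl (mul_pm hε hδ) (Nat.even_iff.2 hpar)
        rw [← mul_assoc, sq_pm hε, one_mul] at h1
        exact h1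
    · refine ⟨M, hM9, by omega, Elt.two (by norm_num) (Nat.odd_iff.2 hpar) ?_⟩
      exact elt_extend hME hε hδ (by norm_num)
  · exact key 3 ε (by norm_num) (by omega) hε (hME.dvd hM9)

/-- odd-dimensional orthogonal and symplectic groups: the unique class of the primes not joined to 3 -/
theorem class_eq' {m : ℕ} (h3 : ¬ 3 ∣ Nat.card F) {r : ℕ} (hr : r.Prime) (hr5 : 5 ≤ r) (hrF : ¬ r ∣ Nat.card F)
    (hcl : eta (ee (Nat.card F) r) = m) (hn : ¬ 3 * r ∣ tn (Nat.card F) (ee (Nat.card F) r)) :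
    ee (Nat.card F) r = if Nat.card F % 3 = 2 ∧ Odd m then m else 2 * m := by
  have hκ := ee_pos hr hrF
  have hT := dvd_tn (q := Nat.card F) card_pos' hr hrF
  have h2 : ¬ ((Odd (ee (Nat.card F) r) ∧ Nat.card F % 3 = 1) ∨
      (Even (ee (Nat.card F) r) ∧ Odd (ee (Nat.card F) r / 2) ∧ Nat.card F % 3 = 2)) := by
    intro h
    exact hn (((Nat.coprime_primes Nat.prime_three hr).2 (by omega)).mul_dvd_of_dvd_of_dvd (three_dvd_tn h) hT)
  generalize ee (Nat.card F) r = κ at h2 hcl hκ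
  have hc := mod_three h3
  generalize Nat.card F = c at h2 hc
  rw [eta] at hcl
  by_cases hev : Even κ
  · rw [if_pos hev] at hcl
    obtain ⟨j, rfl⟩ := hev
    have hj : j = m := by omega
    subst hj
    rw [if_neg]
    · omega
    · rintro ⟨h, h'⟩
      exact h2 (Or.inr ⟨⟨j, rfl⟩, by rwa [show (j + j) / 2 = j by omega], h⟩)
  · rw [if_neg hev] at hcl
    rw [Nat.not_even_iff_odd] at hev
    subst hcl
    have hc2 : c % 3 = 2 := by
      rcases hc with hc | hc
      · exact absurd (Or.inl ⟨hev, hc⟩) h2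
      · exact hc
    rw [if_pos ⟨hc2, hev⟩]

/-- **first alternative of `Cand3.split`**, odd dimension and symplectic groups -/
theorem first_odd {G : Type*} [Group G] [Finite G] {m : ℕ} (h3 : ¬ 3 ∣ Nat.card F)
    (hadj : ∀ r s : ℕ, r.Prime → s.Prime → r ≠ s → ¬ r ∣ Nat.card F → ¬ s ∣ Nat.card F →
      wO (Nat.card F) r + wO (Nat.card F) s ≤ m → ∃ g : G, orderOf g = r * s)
    (hchar : ∀ r : ℕ, r.Prime → r ≠ 2 → r ∣ Nat.card F → ∃ g : G, orderOf g = 3 * r)
    (htor : ∀ N κ : ℕ, 1 ≤ κ → Odd N → N ∣ tn (Nat.card F) κ → eta κ = m → ∃ g : G, orderOf g = N)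
    (hcl : ∀ s : ℕ, s.Prime → ¬ s ∣ Nat.card F → s ∣ Nat.card G → eta (ee (Nat.card F) s) ≤ m)
    {r s : ℕ} (hr : r.Prime) (hs : s.Prime) (hrs : r ≠ s) (hr5 : 5 ≤ r) (hs5 : 5 ≤ s)
    (hxr : ∃ x : G, orderOf x = r) (hxs : ∃ x : G, orderOf x = s)
    (h3r : ∀ x : G, orderOf x ≠ 3 * r) (h3s : ∀ x : G, orderOf x ≠ 3 * s) (hrs' : ∀ x : G, orderOf x ≠ r * s) :
    False := by
  have key : ∀ t : ℕ, t.Prime → 5 ≤ t → (∃ x : G, orderOf x = t) → (∀ x : G, orderOf x ≠ 3 * t) →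
      ¬ t ∣ Nat.card F ∧ eta (ee (Nat.card F) t) = m ∧
        ee (Nat.card F) t = if Nat.card F % 3 = 2 ∧ Odd m then m else 2 * m := by
    intro t ht ht5 hxt h3t
    have h1 : ¬ t ∣ Nat.card F := by
      intro h
      obtain ⟨g, hg⟩ := hchar t ht (by omega) h
      exact h3t g hg
    have h2 : eta (ee (Nat.card F) t) = m := by
      obtain ⟨x, hx⟩ := hxt
      have h4 := hcl t ht h1 (by rw [← hx]; exact orderOf_dvd_natCard x)
      by_contra hcon
      obtain ⟨g, hg⟩ := hadj 3 t Nat.prime_three ht (by omega) h3 h1 (by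
        rw [wO_three h3, wO, if_neg (by rw [not_or]; exact ⟨by omega, h1⟩)]
        omega)
      exact h3t g hg
    refine ⟨h1, h2, class_eq' h3 ht ht5 h1 h2 fun h => ?_⟩
    obtain ⟨g, hg⟩ := htor _ _ (ee_pos ht h1) ((by decide : Odd 3).mul (ht.odd_of_ne_two (by omega))) h h2
    exact h3t g hg
  obtain ⟨hrF, hre, hrc⟩ := key r hr hr5 hxr h3r
  obtain ⟨hsF, hse, hsc⟩ := key s hs hs5 hxs h3s
  have h1 := dvd_tn (q := Nat.card F) card_pos' hr hrF
  have h2 := dvd_tn (q := Nat.card F) card_pos' hs hsF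
  rw [hsc, ← hrc] at h2
  obtain ⟨g, hg⟩ := htor _ _ (ee_pos hr hrF) ((hr.odd_of_ne_two (by omega)).mul (hs.odd_of_ne_two (by omega)))
    (((Nat.coprime_primes hr hs).2 hrs).mul_dvd_of_dvd_of_dvd h1 h2) hre
  exact hrs' g hg

end elts

section rows

variable {e : Bool} {k : ℕ} {S : Type*} [Group S] [Finite S]

theorem not_three_dvd {F : Type} [Field F] [Fintype F] (h3 : (3 : F) ≠ 0) : ¬ 3 ∣ Nat.card F := by
  intro h
  obtain ⟨p, hp, hpF, hpu⟩ := prime_dvd_card F
  have h1 := hpu 3 Nat.prime_three h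
  subst h1
  exact h3 (by exact_mod_cast CharP.cast_eq_zero F 3)

theorem two_mul_dvd {a b : ℕ} (h : a * 2 = b) : a ∣ b := ⟨2, h.symm⟩

theorem pplus (h : Cand3 e k S) {F : Type} [Field F] [Fintype F] (h3 : (3 : F) ≠ 0) {m : ℕ} (hm : 4 ≤ m)
    (E : S ≃* Cfsg.POmega F (Cfsg.quadFormPlus m F)) : False := by
  have hF := not_three_dvd h3
  have hG := h.of_equiv E
  have hfin : Finite (Cfsg.POmega F (Cfsg.quadFormPlus m F)) := Finite.of_equiv S E.toEquiv
  by_cases hne : m = 4 ∧ Nat.card F = 2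
  · obtain ⟨rfl, hc⟩ := hne
    have h1 := Cfsg.Agent.S0293.result (F := F) rfl 4 le_rfl
    rw [← Nat.card_eq_fintype_card, hc] at h1
    have h2 : Nat.card (Cfsg.POmega F (Cfsg.quadFormPlus 4 F)) = 174182400 := by
      have h4 : Nat.gcd 4 (2 ^ 4 - 1) = 1 := by decide
      rw [h4, one_mul] at h1
      rw [h1]
      decide
    refine small hG ?_ ?_ <;> rw [h2] <;> norm_num
  rcases hG.split with ⟨r, s, hr, hs, hrs, hr5, hs5, hxr, hxs, h3r, h3s, hrs'⟩ | -
  · exact first_even (F := F) (Or.inl rfl) hm hF (fun N hN => hN.plus hm)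
      (fun s hs _ hsF hsG => plus_class hm hs hsF hsG) hr hs hrs hr5 hs5 hxr hxs h3r h3s hrs'
  · obtain ⟨N, h9, hN, hE⟩ := nine_even (F := F) (m := m) (δ := 1) (Or.inl rfl) hm hF hne
    exact nine_false hG h9 hN (hE.plus hm)

theorem pminus (h : Cand3 e k S) {F : Type} [Field F] [Fintype F] (h3 : (3 : F) ≠ 0) {m : ℕ} (hm : 4 ≤ m)
    (a b : F) (hab : ∀ z₁ z₂ : F, z₁ ^ 2 + a * z₁ * z₂ + b * z₂ ^ 2 = 0 → z₁ = 0 ∧ z₂ = 0)
    (E : S ≃* Cfsg.POmega F (Cfsg.quadFormMinus (m - 1) F a b)) : False := by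
  have hF := not_three_dvd h3
  have hG := h.of_equiv E
  have hfin : Finite (Cfsg.POmega F (Cfsg.quadFormMinus (m - 1) F a b)) := Finite.of_equiv S E.toEquiv
  by_cases hne : m = 4 ∧ Nat.card F = 2
  · obtain ⟨rfl, hc⟩ := hne
    have h1 := Cfsg.Agent.S0294.result (F := F) rfl 4 le_rfl a b hab
    rw [← Nat.card_eq_fintype_card, hc] at h1
    have h2 : Nat.card (Cfsg.POmega F (Cfsg.quadFormMinus (4 - 1) F a b)) = 197406720 := by
      have h4 : Nat.gcd 4 (2 ^ 4 + 1) = 1 := by decide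
      rw [h4, one_mul] at h1
      rw [h1]
      decide
    refine small hG ?_ ?_ <;> rw [h2] <;> norm_num
  rcases hG.split with ⟨r, s, hr, hs, hrs, hr5, hs5, hxr, hxs, h3r, h3s, hrs'⟩ | -
  · exact first_even (F := F) (Or.inr rfl) hm hF (fun N hN => hN.minus hm hab)
      (fun s hs hs2 hsF hsG => minus_class hm hab hs hs2 hsF hsG) hr hs hrs hr5 hs5 hxr hxs h3r h3s hrs'
  · obtain ⟨N, h9, hN, hE⟩ := nine_even (F := F) (m := m) (δ := -1) (Or.inr rfl) hm hF hne
    exact nine_false hG h9 hN (hE.minus hm hab)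

theorem podd (h : Cand3 e k S) {F : Type} [Field F] [Fintype F] (ho : Odd (Fintype.card F)) (h3 : (3 : F) ≠ 0)
    {m : ℕ} (hm : 3 ≤ m) (E : S ≃* Cfsg.POmega F (Cfsg.quadFormOdd m F)) : False := by
  have hF := not_three_dvd h3
  have hG := h.of_equiv E
  have hfin : Finite (Cfsg.POmega F (Cfsg.quadFormOdd m F)) := Finite.of_equiv S E.toEquiv
  rw [← Nat.card_eq_fintype_card] at ho
  have h2 : (2 : F) ≠ 0 := Cfsg.Agent.H377.OOdd.two_ne_zero_of_odd ho
  have htor : ∀ N κ : ℕ, 1 ≤ κ → Odd N → N ∣ tn (Nat.card F) κ → eta κ = m →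
      ∃ g : Cfsg.POmega F (Cfsg.quadFormOdd m F), orderOf g = N := by
    intro N κ hκ hN hd hm'
    have h1 := elt_tn (F := F) hκ hd
    rw [hm'] at h1
    exact exists_odd_of_elt h2 hm h1 fun j => (Nat.Coprime.dvd_mul_left (Nat.coprime_two_left.2 hN).symm)
  rcases hG.split with ⟨r, s, hr, hs, hrs, hr5, hs5, hxr, hxs, h3r, h3s, hrs'⟩ | -
  · exact first_odd (F := F) (m := m) hF (fun r s hr hs hrs _ _ h => odd_adj h2 hm hr hs hrs h)
      (fun r hr hr2 hd => odd_adj h2 hm Nat.prime_three hr (fun h => hF (h ▸ hd)) (by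
        rw [wO_three hF, wO, if_pos (Or.inr hd)]; exact hm)) htor
      (fun s hs hsF hsG => odd_class h2 hm hs hsF hsG) hr hs hrs hr5 hs5 hxr hxs h3r h3s hrs'
  · -- elements of order `9 k`
    have key : ∀ ε : ℤ, (ε = 1 ∨ ε = -1) → Elt F 1 ε 9 → False := by
      intro ε hε h9
      obtain ⟨δ, h4⟩ := exists_elt_le (m := m) h9 (elt_four (F := F) (n := 2) le_rfl (Or.inl rfl)) hε (Or.inl rfl)
        (by omega)
      refine nine_false hG (N := 18) (by norm_num) (by norm_num) (exists_odd_of_elt h2 hm h4 fun j => ?_)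
      have h5 : Nat.lcm 9 4 = 2 * 18 := by decide
      rw [h5]
      exact Nat.mul_dvd_mul_iff_left (by norm_num)
    have key3 : ∀ (ε : ℤ) (M : ℕ), 9 ∣ M → M % 2 = 0 → 124 ≤ M → Elt F 3 ε M → False := by
      intro ε M h9 hM2 hM hE
      have h4 := hE.prod (elt_one (F := F) (m - 3))
      rw [mul_one, Nat.lcm_one_right, show 3 + (m - 3) = m by omega] at h4
      refine nine_false hG (N := M / 2) (by omega) (by omega) (exists_odd_of_elt h2 hm h4 fun j => ?_)
      obtain ⟨M', rfl⟩ : ∃ M', M = 2 * M' := ⟨M / 2, by omega⟩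
      rw [Nat.mul_div_cancel_left _ (by norm_num)]
      exact Nat.mul_dvd_mul_iff_left (by norm_num)
    have h5 : 5 ≤ Nat.card F := by
      have h6 : 2 ≤ Nat.card F := Finite.one_lt_card
      have h7 : Nat.card F ≠ 3 := fun h => hF (by rw [h])
      have h8 := Nat.odd_iff.1 ho
      omega
    have h125 : 125 ≤ Nat.card F ^ 3 := by
      calc 125 = 5 ^ 3 := by norm_num
        _ ≤ Nat.card F ^ 3 := Nat.pow_le_pow_left h5 3
    have hpar : Nat.card F ^ 3 % 2 = 1 := by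
      rw [Nat.pow_mod, Nat.odd_iff.1 ho]
    rcases mod_nine hF with (h | h) | h | h
    · exact key 1 (Or.inl rfl) (elt_tor_plus le_rfl h)
    · exact key (-1) (Or.inr rfl) (elt_tor_minus le_rfl h)
    · exact key3 1 _ h (by omega) (by omega) (elt_tor_plus (by norm_num) dvd_rfl)
    · exact key3 (-1) _ h (by omega) (by omega) (elt_tor_minus (by norm_num) dvd_rfl)

end rows

end Cfsg.Agent.H744.Rec
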