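import Cfsg.Agent.H744.RecOrth
import Cfsg.Agent.H377.SpElt
import Cfsg.Agent.H376.SpEmb

/-!
# S3456: the row of the symplectic groups (helper744, for helper402)

`psp`: `S` with `Cand3 e k S` is not `PSp_{2n}(q)` in characteristic different from 3.
-/

set_option autoImplicit false
set_option linter.unusedSectionVars false

namespace Cfsg.Agent.H744.Rec

open Cfsg Cfsg.Agent.H402.Rec Cfsg.Agent.H377 Cfsg.Agent.H72.AdjOrth Cfsg.Agent.H72.AdjCoc
open Cfsg.Agent.H150 Cfsg.Agent.H376.SpEmb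

section

variable {F : Type*} [Field F] [Finite F]

/-- an element of odd order `N` prime to `p`, times a transvection -/
theorem psp_transv {p : ℕ} [Fact p.Prime] [CharP F p] {a n N : ℕ} (ha : 1 ≤ a) (han : a + 1 ≤ n)
    (hNp : Nat.Coprime N p) (S : Matrix.symplecticGroup (Fin a) F) (hS : orderOf S = N) :
    ∃ g : PSp n F, orderOf g = N * p := by
  classical
  have := Fintype.ofFinite F
  obtain ⟨T, hT, v, hv0, hv⟩ := exists_transv (F := F) p (m := n - a) (by omega)
  have hvj : ∀ j : ℕ, ((spLin T) ^ j) v = v := by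
    intro j
    induction j with
    | zero => rfl
    | succ j ih => rw [pow_succ, Module.End.mul_apply, hv, ih]
  have h1 := exists_psp_of_prod ha S T (N := N * p) (fun j => ?_)
  · rwa [show a + (n - a) = n by omega] at h1
  · have e1 : (spLin S) ^ j = 1 ↔ N ∣ j := by
      rw [spLin_pow_eq_one_iff, ← hS, orderOf_dvd_iff_pow_eq_one]
    have e2 : N * p ∣ j ↔ N ∣ j ∧ p ∣ j :=
      ⟨fun h => ⟨(dvd_mul_right _ _).trans h, (dvd_mul_left _ _).trans h⟩,
        fun h => hNp.mul_dvd_of_dvd_of_dvd h.1 h.2⟩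
    rw [e1, hT, e2]
    constructor
    · rintro (h | ⟨h4, h5⟩)
      · exact h
      · have h6 : -v = v := by
          have h7 := hvj j
          rw [h5] at h7
          exact h7
        have h8 : (2 : F) = 0 := by
          by_contra h2
          apply hv0
          have h9 : (2 : F) • v = 0 := by
            rw [two_smul]
            nth_rw 1 [← h6]
            exact neg_add_cancel v
          exact (smul_eq_zero.1 h9).resolve_left h2
        have h10 : (-1 : F) = 1 := by linear_combination -h8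
        have h11 : ∀ {V : Type _} [AddCommGroup V] [Module F V], (-1 : Module.End F V) = 1 := by
          intro V _ _
          refine LinearMap.ext fun x => ?_
          change -x = x
          have : (-1 : F) • x = (1 : F) • x := by rw [h10]
          simpa using this
        rw [h11] at h4 h5
        exact ⟨e1.1 h4, (hT j).1 h5⟩
    · exact Or.inl

/-- elements of order `N ∣ q ^ i ± 1` of `Sp_{2i}(q)` -/
theorem sp_tor {i N : ℕ} (hi : 1 ≤ i) (hN : N ∣ Nat.card F ^ i - 1 ∨ N ∣ Nat.card F ^ i + 1) :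
    ∃ A : Matrix.symplecticGroup (Fin i) F, orderOf A = N := by
  rcases hN with h | h
  · refine exists_of_dvd ?_ h (exists_minus F i (by omega))
    have h1 : 2 ≤ Nat.card F := Finite.one_lt_card
    have h2 : Nat.card F ≤ Nat.card F ^ i := Nat.le_self_pow (by omega) _
    omega
  · exact exists_of_dvd (by omega) h (exists_plus F i (by omega))

/-- `PSp₄(q)` has no elements of order 9 if 9 does not divide `q² - 1`. -/
theorem no_nine_two (h3 : ¬ 3 ∣ Nat.card F) (h9 : ¬ (9 ∣ Nat.card F ^ 1 - 1 ∨ 9 ∣ Nat.card F ^ 1 + 1))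
    (g : PSp 2 F) : orderOf g ≠ 9 := by
  classical
  have := Fintype.ofFinite F
  have hp3 : Fact (Nat.Prime 3) := ⟨Nat.prime_three⟩
  intro hg
  obtain ⟨A, rfl⟩ := QuotientGroup.mk_surjective g
  -- `A ^ 2` has order 9
  have hA : orderOf (A ^ 2) = 9 := by
    have h1 : A ^ 9 ∈ Subgroup.center (Matrix.symplecticGroup (Fin 2) F) := by
      rw [← QuotientGroup.eq_one_iff, QuotientGroup.mk_pow, ← hg, pow_orderOf_eq_one]
    have h2 := center_pow _ h1
    have h4 : (A ^ 2) ^ 3 ^ 2 = 1 := by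
      rw [← pow_mul]
      rw [← pow_mul] at h2
      exact h2
    refine orderOf_eq_prime_pow (p := 3) (n := 1) ?_ h4
    intro h5
    have h6 : ((A : PSp 2 F)) ^ 6 = 1 := by
      rw [← QuotientGroup.mk_pow]
      have : A ^ 6 = 1 := by
        rw [← h5, ← pow_mul]
        norm_num
      rw [this]; rfl
    have h7 := orderOf_dvd_of_pow_eq_one h6
    rw [hg] at h7
    exact absurd h7 (by norm_num)
  -- the Sylow 3-subgroup
  obtain ⟨B, hB⟩ : ∃ B : Matrix.symplecticGroup (Fin 1) F, orderOf B = 3 := by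
    refine sp_tor le_rfl ?_
    rw [pow_one]
    omega
  let φ : Matrix.symplecticGroup (Fin 1) F × Matrix.symplecticGroup (Fin 1) F →* Matrix.symplecticGroup (Fin 2) F :=
    (reidx (F := F) (finSumFinEquiv : Fin 1 ⊕ Fin 1 ≃ Fin 2)).comp (blk (F := F) (Fin 1) (Fin 1))
  have hφ : Function.Injective φ := (reidx_injective _).comp (blk_injective _ _)
  let H : Subgroup (Matrix.symplecticGroup (Fin 2) F) := ((Subgroup.zpowers B).prod (Subgroup.zpowers B)).map φ
  have hHcard : Nat.card H = 9 := by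
    rw [Nat.card_congr ((((Subgroup.zpowers B).prod (Subgroup.zpowers B)).equivMapOfInjective φ hφ).symm.toEquiv),
      Nat.card_congr (Subgroup.prodEquiv _ _).toEquiv, Nat.card_prod, Nat.card_zpowers, hB]
  have hHexp : ∀ x ∈ H, x ^ 3 = 1 := by
    rintro _ ⟨y, hy, rfl⟩
    obtain ⟨h1, h2⟩ := Subgroup.mem_prod.1 hy
    rw [← map_pow]
    have : y ^ 3 = 1 := by
      refine Prod.ext ?_ ?_
      · obtain ⟨i, hi⟩ := h1
        change y.1 ^ 3 = 1
        rw [← hi]
        change (B ^ i) ^ 3 = 1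
        rw [← zpow_natCast, ← zpow_mul, mul_comm, zpow_mul, zpow_natCast, ← hB, pow_orderOf_eq_one, one_zpow]
      · obtain ⟨i, hi⟩ := h2
        change y.2 ^ 3 = 1
        rw [← hi]
        change (B ^ i) ^ 3 = 1
        rw [← zpow_natCast, ← zpow_mul, mul_comm, zpow_mul, zpow_natCast, ← hB, pow_orderOf_eq_one, one_zpow]
    rw [this, map_one]
  have hHp : IsPGroup 3 H := by
    intro x
    exact ⟨1, Subtype.ext (by rw [pow_one]; exact hHexp x x.2)⟩
  have hidx : ¬ 3 ∣ H.index := by
    intro h1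
    have h2 : 27 ∣ Nat.card (Matrix.symplecticGroup (Fin 2) F) := by
      rw [← H.card_mul_index, hHcard]
      exact Nat.mul_dvd_mul (dvd_refl 9) h1
    rw [Cfsg.Agent.S0245.result (F := F) rfl 2, ← Nat.card_eq_fintype_card] at h2
    simp only [Finset.prod_range_succ, Finset.prod_range_zero, one_mul] at h2
    have hc := mod_three h3
    rw [pow_one] at h9
    have hc1 : 1 ≤ Nat.card F := Nat.card_pos
    generalize Nat.card F = c at h2 h3 h9 hc hc1
    have hcc : 1 ≤ c ^ 2 := Nat.one_le_pow _ _ hc1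
    have e4 : c ^ (2 * (1 + 1)) - 1 = (c ^ 2 - 1) * (c ^ 2 + 1) := by
      have h4 : c ^ (2 * (1 + 1)) = (c ^ 2) ^ 2 := by ring
      have := Nat.sq_sub_sq (c ^ 2) 1
      rw [one_pow] at this
      rw [h4, this, mul_comm]
    have e2 : c ^ (2 * (0 + 1)) - 1 = c ^ 2 - 1 := by norm_num
    rw [e4, e2] at h2
    have hc2 : c ^ 2 % 3 = 1 := by
      rcases hc with h | h <;> rw [Nat.pow_mod, h]
    -- `9 ∤ c² - 1`
    have h5 : ¬ 9 ∣ c ^ 2 - 1 := by
      have h6 : c ^ 2 - 1 = (c + 1) * (c - 1) := by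
        have := Nat.sq_sub_sq c 1
        rwa [one_pow] at this
      rw [h6]
      intro h7
      rcases hc with hc | hc
      · have h8 : Nat.Coprime 9 (c + 1) := by
          rw [show (9 : ℕ) = 3 ^ 2 by norm_num]
          exact Nat.Coprime.pow_left 2 ((Nat.Prime.coprime_iff_not_dvd Nat.prime_three).2 (by omega))
        exact h9 (Or.inl (h8.dvd_of_dvd_mul_left h7))
      · have h8 : Nat.Coprime 9 (c - 1) := by
          rw [show (9 : ℕ) = 3 ^ 2 by norm_num]
          exact Nat.Coprime.pow_left 2 ((Nat.Prime.coprime_iff_not_dvd Nat.prime_three).2 (by omega))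
        exact h9 (Or.inr (h8.dvd_of_dvd_mul_right h7))
    obtain ⟨t, ht⟩ : 3 ∣ c ^ 2 - 1 := by omega
    rw [ht] at h2 h5
    have ht3 : ¬ 3 ∣ t := by
      rintro ⟨u, rfl⟩
      exact h5 ⟨u, by ring⟩
    have e5 : c ^ 2 ^ 2 * (3 * t * (3 * t * (c ^ 2 + 1))) = 9 * (c ^ 2 ^ 2 * (t * (t * (c ^ 2 + 1)))) := by ring
    rw [e5, show 27 = 9 * 3 by norm_num] at h2
    have h10 := Nat.dvd_of_mul_dvd_mul_left (by norm_num : 0 < 9) h2
    have hp := Nat.prime_three
    rcases hp.dvd_mul.1 h10 with h | h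
    · exact h3 (hp.dvd_of_dvd_pow h)
    rcases hp.dvd_mul.1 h with h | h
    · exact ht3 h
    rcases hp.dvd_mul.1 h with h | h
    · exact ht3 h
    · omega
  let P : Sylow 3 (Matrix.symplecticGroup (Fin 2) F) := hHp.toSylow hidx
  have hz : IsPGroup 3 (Subgroup.zpowers (A ^ 2)) := by
    refine IsPGroup.of_card (n := 2) ?_
    rw [Nat.card_zpowers, hA]; norm_num
  obtain ⟨Q, hQ⟩ := hz.exists_le_sylow
  obtain ⟨x, hx⟩ := MulAction.exists_smul_eq (Matrix.symplecticGroup (Fin 2) F) P Q
  have h1 : A ^ 2 ∈ (Q : Subgroup (Matrix.symplecticGroup (Fin 2) F)) := hQ (Subgroup.mem_zpowers _)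
  rw [← hx] at h1
  obtain ⟨y, hy, hyA⟩ := (Subgroup.mem_map (f := (MulAut.conj x).toMonoidHom)).1 h1
  have h2 : (A ^ 2) ^ 3 = 1 := by
    rw [← hyA, ← map_pow, hHexp y hy, map_one]
  have h4 := orderOf_dvd_of_pow_eq_one h2
  rw [hA] at h4
  exact absurd h4 (by norm_num)

end

variable {e : Bool} {k : ℕ} {S : Type*} [Group S] [Finite S]

theorem psp (h : Cand3 e k S) {F : Type} [Field F] [Fintype F] (h3 : (3 : F) ≠ 0) {n : ℕ} (hn : 2 ≤ n)
    (_hn2 : n = 2 → 3 ≤ Fintype.card F) (E : S ≃* Cfsg.PSp n F) : False := by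
  have hF := not_three_dvd h3
  have hG := h.of_equiv E
  have hfin : Finite (Cfsg.PSp n F) := Finite.of_equiv S E.toEquiv
  obtain ⟨p, hp, hpF, hpu⟩ := prime_dvd_card F
  have : Fact p.Prime := ⟨hp⟩
  have hpc : p ∣ Nat.card F := by
    obtain ⟨f, -, hf⟩ := FiniteField.card F p
    rw [Nat.card_eq_fintype_card, hf]
    exact dvd_pow_self p f.ne_zero
  have hp3 : Nat.Coprime 3 p := (Nat.coprime_primes Nat.prime_three hp).2 (by
    rintro rfl
    exact hF hpc)
  have hp9 : Nat.Coprime 9 p := by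
    rw [show (9 : ℕ) = 3 ^ 2 by norm_num]
    exact Nat.Coprime.pow_left 2 hp3
  have hc2 : 2 ≤ Nat.card F := Finite.one_lt_card
  rcases hG.split with ⟨r, s, hr, hs, hrs, hr5, hs5, hxr, hxs, h3r, h3s, hrs'⟩ | ⟨h9, -⟩
  · refine first_odd (F := F) (m := n) hF (fun r s hr hs hrs _ _ h => Cfsg.Agent.H72.AdjSp.sp_adj hn hr hs hrs h)
      (fun r hr hr2 hd => ?_) (fun N κ hκ hN hd hm' => ?_)
      (fun s hs hsF hsG => sp_class hs hsF hsG) hr hs hrs hr5 hs5 hxr hxs h3r h3s hrs'
    · obtain rfl := hpu r hr hd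
      obtain ⟨A, hA⟩ := sp_tor (F := F) (i := 1) (N := 3) le_rfl (by rw [pow_one]; omega)
      exact psp_transv le_rfl hn hp3 A hA
    · rw [tn] at hd
      rw [eta] at hm'
      split_ifs at hd hm' with hev
      · rw [hm'] at hd
        exact exists_psp_tor_minus (by omega) hN.pos (Or.inl ⟨hN, hd⟩)
      · rw [hm'] at hd
        exact exists_psp_tor_plus (by omega) hN.pos (Or.inl ⟨hN, hd⟩)
  · -- elements of order `9 k`
    have key : ∀ i : ℕ, 1 ≤ i → i + 1 ≤ n → (9 ∣ Nat.card F ^ i - 1 ∨ 9 ∣ Nat.card F ^ i + 1) → False := by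
      intro i hi hin h
      obtain ⟨A, hA⟩ := sp_tor hi h
      refine nine_false hG (N := 9 * p) (dvd_mul_right _ _) ?_ (psp_transv hi hin hp9 A hA)
      have := hp.two_le
      omega
    have h1 := mod_nine hF
    by_cases h2 : 9 ∣ Nat.card F ^ 1 - 1 ∨ 9 ∣ Nat.card F ^ 1 + 1
    · exact key 1 le_rfl (by omega) h2
    have h4 := h1.resolve_left h2
    rcases Nat.lt_or_ge n 4 with hn4 | hn4
    swap
    · exact key 3 (by norm_num) hn4 h4
    rcases Nat.lt_or_ge n 3 with hn3 | hn3
    · have hn2 : n = 2 := by omega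
      subst hn2
      obtain ⟨x, hx⟩ := h9
      exact no_nine_two hF h2 x hx
    have hn3 : n = 3 := by omega
    subst hn3
    by_cases hF2 : Nat.card F = 2
    · have h5 := Cfsg.Agent.S0245.result (F := F) rfl 3
      rw [← Nat.card_eq_fintype_card, hF2] at h5
      have h6 : 7 ∣ Nat.card (PSp 3 F) := by
        obtain ⟨g, hg⟩ := exists_psp_tor_plus (F := F) (m := 3) (by norm_num) (N := 7) (by norm_num)
          (Or.inl ⟨by decide, by rw [hF2]; decide⟩)
        rw [← hg]
        exact orderOf_dvd_natCard g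
      refine small hG h6 ((Subgroup.card_quotient_dvd_card _).trans ?_)
      rw [h5]
      decide
    · have hge : 64 ≤ Nat.card F ^ 3 := by
        have h7 : Nat.card F ≠ 3 := fun h => hF (by rw [h])
        calc 64 = 4 ^ 3 := by norm_num
          _ ≤ Nat.card F ^ 3 := Nat.pow_le_pow_left (by omega) 3
      rcases h4 with h4 | h4
      · rcases Nat.even_or_odd (Nat.card F ^ 3 - 1) with hev | hod
        · obtain ⟨t, ht⟩ := hev
          refine nine_false hG (N := t) (by omega) (by omega)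
            (exists_psp_tor_plus (by norm_num) (by omega) (Or.inr ⟨1, by omega⟩))
        · refine nine_false hG h4 (by omega) (exists_psp_tor_plus (by norm_num) (by omega) (Or.inl ⟨hod, dvd_rfl⟩))
      · rcases Nat.even_or_odd (Nat.card F ^ 3 + 1) with hev | hod
        · obtain ⟨t, ht⟩ := hev
          refine nine_false hG (N := t) (by omega) (by omega)
            (exists_psp_tor_minus (by norm_num) (by omega) (Or.inr ⟨1, by omega⟩))
        · refine nine_false hG h4 (by omega) (exists_psp_tor_minus (by norm_num) (by omega) (Or.inl ⟨hod, dvd_rfl⟩))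

end Cfsg.Agent.H744.Rec
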