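import Cfsg.Agent.H445.SLThree
import Cfsg.Agent.OddHalf.NI3.K.TwD4
import Cfsg.Agent.UGT.U2.FOne.TwESixMain

/-!
# S3223: `NoTC` for `³D₄(3)` and `²E₆(3)` (helper744, for helper445)
-/

set_option autoImplicit false

namespace Cfsg.Agent.H744.NoTCTw

open Subgroup Cfsg.Lie Cfsg.Agent.H445 Cfsg.Agent.OddHalf.LongSL

/-- from `HasLong` -/
theorem noTC_of_hasLong {q : ℕ} (hq : 3 < q) {X : Type*} [Group X] [Finite X] (h : HasLong q X) : NoTC X := by
  obtain ⟨j, J, hj, -, hJj, hs, F, _, _, hF, ho, ⟨e⟩⟩ := h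
  have hqs : Cfsg.IsQuasisimple (Matrix.SpecialLinearGroup (Fin 2) F) :=
    Cfsg.Agent.SignalizersComponents.SLQuasisimple.isQuasisimple_two (by rw [Nat.card_eq_fintype_card]; omega)
  refine NoTC.of_comp (j := j) (K := J) ⟨1, by rw [pow_one, ← hj]; exact pow_orderOf_eq_one j⟩ hJj hs
    (Cfsg.Agent.SignalizersComponents.Components.isQuasisimple_of_mulEquiv e.symm hqs)
    (NoTC.of_equiv e.symm (noTC_sl2 (by rw [hF]; exact ho) (by omega)))

theorem noTC_d4 {F : Type} [Field F] [Fintype F] (hF : Fintype.card F = 27) : NoTC ↥(twistedD4 F 3) :=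
  noTC_of_hasLong (q := 3 ^ 3) (by norm_num)
    (Cfsg.Agent.OddHalf.NI3.K.TwD4.hasLong_short Nat.prime_three.isPrimePow (by rw [hF]; norm_num) (by decide))

section E6

open CoxeterSystem Cfsg.Agent.ChevalleyStructure.CoxeterGeom Cfsg.Agent.Tits.Roots Cfsg.Agent.Tits.Core
  Cfsg.Agent.Tits.RootComb Cfsg.Agent.Nodes.Comb Cfsg.Agent.Nodes.Reps Cfsg.Agent.Nodes.BNOf
  Cfsg.Agent.Nodes.RGDTwGen Cfsg.Agent.Nodes.RGDChev Cfsg.Agent.Nodes.RGDFold Cfsg.Agent.Nodes.Coroot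
  Cfsg.Agent.Nodes.RGDFoldSL Cfsg.Agent.Nodes.RGDTwE6 Cfsg.Agent.Nodes.RGDTwTab Cfsg.Agent.Nodes.RGDTwCoordE6
  Cfsg.Agent.Nodes.RGDTwCoord Cfsg.Agent.Nodes.RGDTwComE6 Cfsg.Agent.Nodes.RGDTwActE6
  Cfsg.Agent.Nodes.RGDLib
open Cfsg.Agent.ChevalleyStructure Cfsg.Agent.UGT.U2.FOne.TwESix Cfsg.Agent.UGT.U2.FOne
  Cfsg.Agent.ChevalleyStructure.TwistedU Cfsg.Agent.ChevalleyStructure.TwistedFix
open Cfsg.Agent.ChevalleyStructure.SL2Hom (up lo)

theorem noTC_e6 {F : Type} [Field F] [Fintype F] (hF : Fintype.card F = 9) : NoTC ↥(twistedE6 F 3) := by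
  classical
  have h3q : IsPrimePow 3 := Nat.prime_three.isPrimePow
  have hK : Fintype.card F = 3 ^ 2 := by rw [hF]; norm_num
  obtain ⟨φ, hφ, hqq⟩ := TwE6Basic.exists_frob h3q hK
  obtain ⟨p, hpK⟩ := CharP.exists F
  have hpf : Fact p.Prime := ⟨CharP.char_is_prime F p⟩
  have hp3 : p = 3 := by
    obtain ⟨n, hp, hn⟩ := FiniteField.card F p
    have h1 : p ∣ 3 ^ 2 := by
      rw [← hK, hn]
      exact dvd_pow_self _ n.ne_zero
    exact (Nat.prime_dvd_prime_iff_eq hp Nat.prime_three).1 (hp.dvd_of_dvd_pow h1)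
  subst hp3
  have h30 : (3 : F) = 0 := by exact_mod_cast CharP.cast_eq_zero F 3
  have h2K : (2 : F) ≠ 0 := by
    intro h0
    have h1 : (1 : F) = 3 - 2 := by norm_num
    rw [h30, h0, sub_zero] at h1
    exact one_ne_zero h1
  have H := inv_zn (cs := CoxeterMatrix.F₄.toCoxeterSystem) hφ hqq h2K
  have hj : Two (zn hφ hqq 0) := ⟨1, by rw [pow_one, pow_two, zn_sq]⟩
  have hw : Two (zn hφ hqq 1) := ⟨1, by rw [pow_one, pow_two, zn_sq]⟩
  have hJj : RA (X φ 3) (sr 0) ≤ centralizer ({zn hφ hqq 0} : Set ↥(twistedE6 F 3)) := by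
    have h1 : ∀ r, (r = sr 0 ∨ r = -sr 0) → X φ 3 r ≤ Subgroup.centralizer {zn hφ hqq 0} := by
      intro r hr v hv
      have hrr : IsRoot CoxeterMatrix.F₄.toCoxeterSystem isCartan r := by
        rcases hr with rfl | rfl
        · exact isRoot_sr _ isCartan 0
        · exact (isRoot_sr _ isCartan 0).neg
      rw [Subgroup.mem_centralizer_iff]
      rintro _ rfl
      refine (H.even r hrr ?_ v hv).symm
      rcases hr with rfl | rfl
      · decide +kernel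
      · decide +kernel
    exact sup_le (h1 _ (Or.inl rfl)) (h1 _ (Or.inr rfl))
  have hfin : Fintype (Fq φ) := Fintype.ofFinite _
  have hc : Fintype.card (Fq φ) = 3 := by
    rw [← Nat.card_eq_fintype_card]
    exact card_Fq hφ (by norm_num) hK
  have he : ↥(RA (X φ 3) (sr 0)) ≃* Matrix.SpecialLinearGroup (Fin 2) (Fq φ) := by
    rw [← range_P hφ hqq]
    exact (MonoidHom.ofInjective (P_injective hφ hqq h2K)).symm
  have hy : P hφ hqq 0 (up 1) ∈ X φ 3 (sr 0) := (mem_X_sr hφ hqq 0).2 ⟨1, rfl⟩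
  have h0r := isRoot_sr CoxeterMatrix.F₄.toCoxeterSystem isCartan 0
  refine NoTC.of_sl3 (j := zn hφ hqq 0) (J := RA (X φ 3) (sr 0)) hj hJj ?_ hc he
    (y := P hφ hqq 0 (up 1)) (w := zn hφ hqq 1) (mem_sup_left hy) ?_ ?_
    (comm_T (zn_mem hφ hqq 1) (zn_mem hφ hqq 0)) hw (Or.inl ?_)
  · exact QsRGD.subnormal_of_le_normalizer
      (cent_le_RA hφ hqq 3 (by simp) h0r H)
  · intro h1
    exact one_ne_zero (P_up_inj hφ hqq 0 h1)
  · have h3F : (1 + 1 + 1 : Fx φ ((Cfsg.Agent.Nodes.RGDTwNode.E6.rest 0).length + 1)) = 0 := by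
      apply Subtype.ext
      show ((1 : F) + 1 + 1) = 0
      rw [← h30]; norm_num
    rw [pow_succ, pow_two, ← map_mul, ← map_mul, ← SLInj.up_add, ← SLInj.up_add, h3F, SLInj.up_zero, map_one]
  · obtain ⟨a, ha, e⟩ := (mem_X hφ hqq h0r _).1 hy
    have hm : Ok chevE6 J O φ (sr 0) ((-1 : F) ^ pairing A 1 (sr 0) * a) := Ok.mul (ok_neg_one_zpow _ _) ha
    have hpar : pairing A 1 (sr 0 : Fin 4 → ℤ) = -1 := by decide +kernel
    rw [← e, conj_zn hφ hqq h0r 1 ha, eq_inv_iff_mul_eq_one, ← x_add hφ hqq h0r hm ha, hpar]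
    have h1 : (-1 : F) ^ (-1 : ℤ) * a + a = 0 := by
      rw [zpow_neg_one, inv_neg, inv_one]
      ring
    rw [h1]
    exact x_zero hφ hqq h0r

end E6

theorem noTC_tw3 : (∀ {F : Type} [Field F] [Fintype F], Fintype.card F = 9 → NoTC ↥(Cfsg.Lie.twistedE6 F 3)) ∧
    (∀ {F : Type} [Field F] [Fintype F], Fintype.card F = 27 → NoTC ↥(Cfsg.Lie.twistedD4 F 3)) :=
  ⟨fun hF => noTC_e6 hF, fun hF => noTC_d4 hF⟩

end Cfsg.Agent.H744.NoTCTw
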