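import Cfsg.Agent.H331.BFSemi
import Cfsg.Agent.H331.BFPoly
import Cfsg.Agent.ChevalleyStructure.Elts

/-!
Tools for S3291 (tasks 224, 225): semilinear automorphisms and polynomial families in a faithful representation.
-/

set_option autoImplicit false
set_option linter.unusedSectionVars false

namespace Cfsg.Agent.H744.BFG

open Cfsg.Agent.H331.BF Polynomial Module

section semi

variable {T : Type*} [Group T] {K : Type*} [Field K] {ι : Type*} [Fintype ι] [DecidableEq ι]

/-- `ρ (α g) = A σ(ρ g) A⁻¹`. -/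
def Semi (ρ : T →* Matrix ι ι K) (σ : K ≃+* K) (A : Matrix ι ι K) (α : MulAut T) : Prop :=
  IsUnit A ∧ ∀ g : T, ρ (α g) * A = A * (ρ g).map σ

theorem Semi.one (ρ : T →* Matrix ι ι K) : Semi ρ (1 : K ≃+* K) 1 1 :=
  ⟨isUnit_one, fun g => by rw [Matrix.mul_one, Matrix.one_mul]; ext i j; rfl⟩

theorem Semi.mul {ρ : T →* Matrix ι ι K} {σ σ' : K ≃+* K} {A A' : Matrix ι ι K} {α α' : MulAut T}
    (h : Semi ρ σ A α) (h' : Semi ρ σ' A' α') : Semi ρ (σ * σ') (A * A'.map σ) (α * α') := by
  refine ⟨h.1.mul (isUnit_map h'.1), fun g => ?_⟩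
  have h5 : (ρ g).map (σ * σ') = ((ρ g).map σ').map σ := by
    ext i j; rfl
  calc ρ ((α * α') g) * (A * A'.map σ) = (ρ (α (α' g)) * A) * A'.map σ := by
        rw [MulAut.mul_apply, Matrix.mul_assoc]
    _ = A * ((ρ (α' g)).map σ * A'.map σ) := by rw [h.2, Matrix.mul_assoc]
    _ = A * (ρ (α' g) * A').map σ := by rw [Matrix.map_mul]
    _ = A * (A' * (ρ g).map σ').map σ := by rw [h'.2]
    _ = A * (A'.map σ * ((ρ g).map σ').map σ) := by rw [Matrix.map_mul]
    _ = A * A'.map σ * (ρ g).map (σ * σ') := by rw [h5, Matrix.mul_assoc]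

theorem Semi.pow {ρ : T →* Matrix ι ι K} {σ : K ≃+* K} {A : Matrix ι ι K} {α : MulAut T}
    (h : Semi ρ σ A α) (m : ℕ) : ∃ A' : Matrix ι ι K, Semi ρ (σ ^ m) A' (α ^ m) := by
  induction m with
  | zero => exact ⟨1, by rw [pow_zero, pow_zero]; exact Semi.one ρ⟩
  | succ m ih =>
    obtain ⟨A', hA'⟩ := ih
    rw [pow_succ, pow_succ]
    exact ⟨_, hA'.mul h⟩

theorem Semi.conj (ρ : T →* Matrix ι ι K) (g : T) : Semi ρ (1 : K ≃+* K) (ρ g) (MulAut.conj g) := by
  refine ⟨IsUnit.of_mul_eq_one (ρ g⁻¹) (by rw [← map_mul, mul_inv_cancel, map_one]), fun x => ?_⟩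
  have h1 : (ρ x).map (1 : K ≃+* K) = ρ x := by ext i j; rfl
  rw [h1, MulAut.conj_apply, map_mul, map_mul, Matrix.mul_assoc, ← map_mul ρ g⁻¹ g, inv_mul_cancel, map_one, Matrix.mul_one]

theorem pow_fix {σ : K ≃+* K} {s : K} (hs : σ s = s) (j : ℕ) : (σ ^ j) s = s := by
  induction j with
  | zero => rfl
  | succ j ih => rw [pow_succ, RingAut.mul_apply, hs, ih]

/-- polynomial matrices -/
def Pol (S : Finset K) (D : ℕ) (M : K → Matrix ι ι K) : Prop :=
  ∀ a b, ∃ P : K[X], P.natDegree ≤ D ∧ ∀ s ∈ S, M s a b = P.eval s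

theorem Pol.mono {S : Finset K} {D D' : ℕ} (hD : D ≤ D') {M : K → Matrix ι ι K} (h : Pol S D M) : Pol S D' M := by
  intro a b
  obtain ⟨P, h1, h2⟩ := h a b
  exact ⟨P, h1.trans hD, h2⟩

theorem Pol.const (S : Finset K) (A : Matrix ι ι K) : Pol S 0 (fun _ => A) := fun a b =>
  ⟨C (A a b), by simp, fun s _ => by simp⟩

theorem Pol.congr {S : Finset K} {D : ℕ} {M M' : K → Matrix ι ι K} (h : Pol S D M) (he : ∀ s ∈ S, M' s = M s) :
    Pol S D M' := by
  intro a b
  obtain ⟨P, h1, h2⟩ := h a b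
  exact ⟨P, h1, fun s hs => by rw [he s hs, h2 s hs]⟩

theorem Pol.mul {S : Finset K} {D D' : ℕ} {M M' : K → Matrix ι ι K} (h : Pol S D M) (h' : Pol S D' M') :
    Pol S (D + D') (fun s => M s * M' s) := by
  intro a b
  choose P hP1 hP2 using h
  choose Q hQ1 hQ2 using h'
  refine ⟨∑ c, P a c * Q c b, ?_, fun s hs => ?_⟩
  · refine natDegree_sum_le_of_forall_le _ _ fun c _ => ?_
    exact le_trans natDegree_mul_le (Nat.add_le_add (hP1 a c) (hQ1 c b))
  · simp only [Matrix.mul_apply, eval_finsetSum, eval_mul]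
    exact Finset.sum_congr rfl fun c _ => by rw [hP2 a c s hs, hQ2 c b s hs]

theorem Pol.map {S : Finset K} {D : ℕ} {M : K → Matrix ι ι K} (h : Pol S D M) (σ : K ≃+* K)
    (hS : ∀ s ∈ S, σ s = s) : Pol S D (fun s => (M s).map σ) := by
  intro a b
  obtain ⟨P, h1, h2⟩ := h a b
  refine ⟨P.map (σ : K →+* K), le_trans natDegree_map_le h1, fun s hs => ?_⟩
  show σ (M s a b) = _
  rw [h2 s hs]
  have h3 : (P.map (σ : K →+* K)).eval ((σ : K →+* K) s) = (σ : K →+* K) (P.eval s) := eval_map_apply _ _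
  have h4 : (σ : K →+* K) s = s := hS s hs
  rw [h4] at h3
  exact h3.symm

theorem Semi.pol {ρ : T →* Matrix ι ι K} {σ : K ≃+* K} {A : Matrix ι ι K} {α : MulAut T}
    (h : Semi ρ σ A α) {S : Finset K} (hS : ∀ s ∈ S, σ s = s) {D : ℕ} {x : K → T}
    (hx : Pol S D (fun s => ρ (x s))) : Pol S D (fun s => ρ (α (x s))) := by
  obtain ⟨B, hB⟩ := h.1.exists_right_inv
  have h1 := ((Pol.const S A).mul (hx.map σ hS)).mul (Pol.const S B)
  rw [zero_add, add_zero] at h1
  refine h1.congr fun s _ => ?_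
  show ρ (α (x s)) = A * (ρ (x s)).map σ * B
  rw [← h.2, Matrix.mul_assoc, hB, Matrix.mul_one]

/-- **The parameter bound.** `S` is a set of parameters fixed by `σ`. -/
theorem param_bound [Finite T] (ρ : T →* Matrix ι ι K) (hρ : Function.Injective ρ) {σ : K ≃+* K} {A : Matrix ι ι K}
    {α : MulAut T} (h : Semi ρ σ A α) {n k D m : ℕ} (hα : α ^ n = 1) (hk : Nat.card {x : T // α x = x} ≤ k)
    (S : Finset K) (h0 : (0 : K) ∈ S) (hS : ∀ s ∈ S, σ s = s)
    {I : Type*} (x : I → K → T) (hx0 : ∀ i, x i 0 = 1)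
    (hgen : Subgroup.closure {g | ∃ i, ∃ s ∈ S, x i s = g} = ⊤)
    (hpoly : ∀ i, Pol S D (fun s => ρ (x i s)))
    (hm : (∀ g : T, Nm α n g = 1) → S.card ≤ m) :
    S.card ≤ k * (((Fintype.card ι * Fintype.card ι) ^ n + 1) * (n * D)) + m := by
  by_cases hne : ∃ g : T, Nm α n g ≠ 1
  · refine le_trans (bound_faithful ρ hρ α hα hk S h0 x hx0 hgen (D := D) ?_ hne) (Nat.le_add_right _ _)
    intro i j _ a b
    obtain ⟨A', hA'⟩ := h.pow j
    exact hA'.pol (fun s hs => pow_fix (hS s hs) j) (hpoly i) a b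
  · push Not at hne
    exact le_trans (hm hne) (Nat.le_add_left _ _)

end semi

/-! ### root elements have polynomial entries -/

section chev

open Cfsg.Lie Cfsg.Agent.ChevalleyStructure Cfsg.Agent.ChevalleyStructure.Elts

theorem list_poly {F : Type*} [Field F] (l : List (ℕ × ℤ)) : ∃ P : F[X], P.natDegree ≤ (l.map (·.1)).sum ∧
    ∀ t : F, (l.map fun km => ((km.2 : ℤ) : F) * t ^ km.1).sum = P.eval t := by
  induction l with
  | nil => exact ⟨0, by simp, by simp⟩
  | cons a l ih =>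
    obtain ⟨P, h1, h2⟩ := ih
    refine ⟨C (a.2 : F) * X ^ a.1 + P, ?_, fun t => ?_⟩
    · refine le_trans (natDegree_add_le _ _) (max_le ?_ ?_)
      · refine le_trans (natDegree_C_mul_X_pow_le _ _) ?_
        simp
      · refine le_trans h1 ?_
        simp
    · rw [List.map_cons, List.sum_cons, h2]
      simp

theorem le_sum3 {ι : Type*} [Fintype ι] (f : ι → ι → ι → ℕ) (r s u : ι) : f r s u ≤ ∑ r, ∑ s, ∑ u, f r s u := by
  have h1 : f r s u ≤ ∑ u, f r s u := Finset.single_le_sum (f := f r s) (fun _ _ => Nat.zero_le _) (Finset.mem_univ u)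
  have h2 : ∑ u, f r s u ≤ ∑ s, ∑ u, f r s u :=
    Finset.single_le_sum (f := fun s => ∑ u, f r s u) (fun _ _ => Nat.zero_le _) (Finset.mem_univ s)
  have h3 : ∑ s, ∑ u, f r s u ≤ ∑ r, ∑ s, ∑ u, f r s u :=
    Finset.single_le_sum (f := fun r => ∑ s, ∑ u, f r s u) (fun _ _ => Nat.zero_le _) (Finset.mem_univ r)
  exact h1.trans (h2.trans h3)

/-- a bound for the degrees -/
def degB (D : ChevalleyDatum) : ℕ :=
  2 + ∑ r : Fin D.nroots, ∑ s : Fin D.nroots, ∑ u : Fin D.nroots, ((D.chainCoeff r s u).map (·.1)).sum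

theorem chain_le (D : ChevalleyDatum) (r s u : Fin D.nroots) :
    ((D.chainCoeff r s u).map (·.1)).sum ≤ degB D :=
  (le_sum3 (fun r s u : Fin D.nroots => ((D.chainCoeff r s u).map (·.1)).sum) r s u).trans (Nat.le_add_left _ 2)

theorem xMat_poly (D : ChevalleyDatum) {F : Type*} [Field F] (r : Fin D.nroots) (a b : D.Idx) :
    ∃ P : F[X], P.natDegree ≤ degB D ∧ ∀ t : F, D.xMat F r t a b = P.eval t := by
  have h2 : 2 ≤ degB D := Nat.le_add_right _ _
  have hX : ∀ c : F, (C c * X : F[X]).natDegree ≤ degB D := fun c =>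
    (natDegree_C_mul_le c X).trans (natDegree_X_le.trans (le_trans (by norm_num) h2))
  have hC : ∀ c : F, (C c : F[X]).natDegree ≤ degB D := fun c => by rw [natDegree_C]; exact Nat.zero_le _
  rcases b with i | s
  · rcases a with i' | u
    · exact ⟨C (if i' = i then 1 else 0), hC _, fun t => by rw [eval_C]; rfl⟩
    · by_cases hu : u = r
      · refine ⟨C (-(((D.cartanSR.getD i.val #[]).getD r.val 0 : ℤ) : F)) * X, hX _, fun t => ?_⟩
        rw [eval_mul, eval_C, eval_X, hu]
        show (if r = r then - (((D.cartanSR.getD i.val #[]).getD r.val 0 : ℤ) : F) * t else 0) = _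
        rw [if_pos rfl]
      · refine ⟨0, by simp, fun t => ?_⟩
        rw [eval_zero]
        show (if u = r then - (((D.cartanSR.getD i.val #[]).getD r.val 0 : ℤ) : F) * t else 0) = _
        rw [if_neg hu]
  · by_cases hs : s = r
    · rcases a with i' | u
      · refine ⟨0, by simp, fun t => ?_⟩
        simp [ChevalleyDatum.xMat, hs]
      · refine ⟨C (if u = r then 1 else 0), hC _, fun t => ?_⟩
        rw [eval_C]
        simp only [ChevalleyDatum.xMat, Matrix.of_apply, hs, if_true]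
    · by_cases hn : s.val = D.negIdx.getD r.val 0
      · rcases a with i' | u
        · refine ⟨C (((D.coroot.getD r.val #[]).getD i'.val 0 : ℤ) : F) * X, hX _, fun t => ?_⟩
          rw [eval_mul, eval_C, eval_X]
          simp only [ChevalleyDatum.xMat, Matrix.of_apply, hs, hn, if_true, if_false]
        · by_cases hus : u = s
          · refine ⟨1, by simp, fun t => ?_⟩
            simp only [ChevalleyDatum.xMat, Matrix.of_apply, hs, hn, hus, if_true, if_false, eval_one]
          · by_cases hur : u = r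
            · refine ⟨-(X ^ 2), by rw [natDegree_neg, natDegree_X_pow]; exact h2, fun t => ?_⟩
              simp only [ChevalleyDatum.xMat, Matrix.of_apply, hs, hn, hus, hur, if_true, if_false, eval_neg, eval_pow,
                eval_X]
              rw [if_neg (fun h => hs h.symm)]
            · refine ⟨0, by simp, fun t => ?_⟩
              simp only [ChevalleyDatum.xMat, Matrix.of_apply, hs, hn, hus, hur, if_true, if_false, eval_zero]
      · rcases a with i' | u
        · refine ⟨0, by simp, fun t => ?_⟩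
          simp only [ChevalleyDatum.xMat, Matrix.of_apply, hs, hn, if_false, eval_zero]
        · obtain ⟨P, h1, h3⟩ := list_poly (F := F) (D.chainCoeff r.val s.val u.val)
          refine ⟨C (if u = s then 1 else 0) + P, ?_, fun t => ?_⟩
          · exact le_trans (natDegree_add_le _ _) (max_le (hC _) (h1.trans (chain_le D r s u)))
          · rw [eval_add, eval_C, ← h3]
            simp only [ChevalleyDatum.xMat, Matrix.of_apply, hs, hn, if_false]

/-- the entries of `x_r(c t)` -/
theorem x_poly (D : ChevalleyDatum) {F : Type*} [Field F] (r : ℕ) (c : F) (S : Finset F) :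
    Pol S (degB D) (fun t => D.x F r (c * t)) := by
  intro a b
  by_cases hr : r < D.nroots
  · obtain ⟨P, h1, h2⟩ := xMat_poly D (F := F) ⟨r, hr⟩ a b
    refine ⟨P.comp (C c * X), ?_, fun t _ => ?_⟩
    · refine le_trans natDegree_comp_le ?_
      calc P.natDegree * (C c * X : F[X]).natDegree ≤ degB D * 1 :=
            Nat.mul_le_mul h1 ((natDegree_C_mul_le c X).trans natDegree_X_le)
        _ = degB D := Nat.mul_one _
    · show D.x F r (c * t) a b = _
      rw [x_of_lt hr, h2]
      simp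
  · refine ⟨C ((1 : Matrix D.Idx D.Idx F) a b), by simp, fun t _ => ?_⟩
    show D.x F r (c * t) a b = _
    rw [x_of_not_lt hr]
    simp

end chev

end Cfsg.Agent.H744.BFG
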