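import Cfsg.Agent.H744.FormG

/-!
# The presentation `Rel4` (for S5177, task 52)
-/

set_option autoImplicit false

namespace Cfsg.Agent.H744.Form

open Cfsg.Agent.H764

variable {Ω : Type*} [Group Ω] {p : ℕ} [hp : Fact p.Prime] {S Q : Subgroup Ω} [Finite S] {x : Ω}

/-- the element `u(y) = x⁻¹ y x y⁻¹`. -/
def uu (x y : Ω) : Ω := x⁻¹ * y * x * y⁻¹

/-- The hypotheses of `form4` on `x`. -/
structure Hyp4 (S Q : Subgroup Ω) (x : Ω) : Prop where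
  hx : x ∈ S
  hab : ∀ q ∈ Q, ∀ r ∈ Q, x * q = q * x → x * r = r * x → q * r = r * q
  hcomm : ∀ q ∈ Q, x * (x * q * x⁻¹ * q⁻¹) = (x * q * x⁻¹ * q⁻¹) * x
  hnd : ∀ q ∈ Q, x * q * x⁻¹ * q⁻¹ ∈ ZQ Q → x * q = q * x

/-- `C_Q(x)` -/
def E0 (Q : Subgroup Ω) (x : Ω) : Subgroup Ω := Q ⊓ Subgroup.centralizer {x}

omit [Finite S] hp in
theorem mem_E0 {q : Ω} : q ∈ E0 Q x ↔ q ∈ Q ∧ x * q = q * x := by
  unfold E0
  rw [Subgroup.mem_inf, Subgroup.mem_centralizer_singleton_iff]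
  constructor
  · rintro ⟨h1, h2⟩; exact ⟨h1, h2.symm⟩
  · rintro ⟨h1, h2⟩; exact ⟨h1, h2.symm⟩

theorem E0_le : E0 Q x ≤ Q := inf_le_left

theorem uu_eq (H : Hyp4 S Q x) {q : Ω} (hq : q ∈ Q) : uu x q = (cm x q)⁻¹ := by
  have h1 : x * cm x q = cm x q * x := H.hcomm q hq
  have h2 : x⁻¹ * (cm x q)⁻¹ = (cm x q)⁻¹ * x⁻¹ := by
    have := congrArg (fun w => w⁻¹) h1
    simp only [mul_inv_rev] at this
    exact this.symm
  calc uu x q = x⁻¹ * (cm x q)⁻¹ * (x * q * x⁻¹) * x * q⁻¹ := by unfold uu cm; group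
    _ = (cm x q)⁻¹ * x⁻¹ * (x * q * x⁻¹) * x * q⁻¹ := by rw [h2]
    _ = (cm x q)⁻¹ := by group

theorem uu_mem (h : Ext p S Q) (H : Hyp4 S Q x) {q : Ω} (hq : q ∈ Q) : uu x q ∈ E0 Q x := by
  rw [uu_eq H hq]
  refine (E0 Q x).inv_mem (mem_E0.2 ⟨Q.mul_mem (h.conj_mem H.hx hq) (Q.inv_mem hq), H.hcomm q hq⟩)

theorem Z_le_E0 (h : Ext p S Q) (H : Hyp4 S Q x) : ZQ Q ≤ E0 Q x := fun w hw =>
  mem_E0.2 ⟨ZQ_le Q hw, h.Z_comm H.hx hw⟩

theorem E0_comm (H : Hyp4 S Q x) {q r : Ω} (hq : q ∈ E0 Q x) (hr : r ∈ E0 Q x) : q * r = r * q := by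
  rw [mem_E0] at hq hr
  exact H.hab q hq.1 r hr.1 hq.2 hr.2

theorem uu_E0 {q : Ω} (hq : q ∈ E0 Q x) : uu x q = 1 := by
  have h1 := (mem_E0.1 hq).2
  calc uu x q = x⁻¹ * (q * x) * q⁻¹ := by unfold uu; group
    _ = x⁻¹ * (x * q) * q⁻¹ := by rw [h1]
    _ = 1 := by group

theorem uu_mul (x q r : Ω) : uu x (q * r) = uu x q * cm q (uu x r) * uu x r := by
  unfold uu cm; group

/-- the form -/
def bf (x q r : Ω) : Ω := cm q (uu x r)

variable (h : Ext p S Q) (H : Hyp4 S Q x)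

include h H

theorem bf_mem {q r : Ω} (hq : q ∈ Q) (hr : r ∈ Q) : bf x q r ∈ ZQ Q :=
  cm_mem h hq (E0_le (uu_mem h H hr))

theorem bf_mul_left {q q' r : Ω} (hq : q ∈ Q) (hq' : q' ∈ Q) (hr : r ∈ Q) :
    bf x (q * q') r = bf x q r * bf x q' r := cm_mul_left h hq hq' (E0_le (uu_mem h H hr))

theorem bf_mul_right {q r r' : Ω} (hq : q ∈ Q) (hr : r ∈ Q) (hr' : r' ∈ Q) :
    bf x q (r * r') = bf x q r * bf x q r' := by
  have m1 := E0_le (uu_mem h H hr)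
  have m2 := E0_le (uu_mem h H hr')
  have m3 := bf_mem h H hr hr'
  unfold bf at m3 ⊢
  rw [uu_mul, cm_mul_right h hq (Q.mul_mem m1 (ZQ_le Q m3)) m2, cm_mul_right h hq m1 (ZQ_le Q m3),
    cm_Z_right m3 hq, mul_one]

theorem bf_symm {q r : Ω} (hq : q ∈ Q) (hr : r ∈ Q) : bf x q r = bf x r q := by
  have m1 := uu_mem h H hq
  have m2 := uu_mem h H hr
  have m3 := bf_mem h H hq hr
  have m4 := bf_mem h H hr hq
  have hc := cm_mem h hq hr
  have e1 : uu x (q * r) = uu x (r * q) := by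
    have e2 : q * r = cm q r * (r * q) := by unfold cm; group
    have e3 : uu x (cm q r) = 1 := uu_E0 (Z_le_E0 h H hc)
    have e4 : cm (cm q r) (uu x (r * q)) = 1 := cm_Z_left hc (E0_le (uu_mem h H (Q.mul_mem hr hq)))
    rw [e2, uu_mul, e3, e4, one_mul, one_mul]
  rw [uu_mul, uu_mul] at e1
  have e5 : uu x q * cm q (uu x r) * uu x r = (bf x q r) * (uu x r * uu x q) := by
    calc uu x q * cm q (uu x r) * uu x r = uu x q * bf x q r * uu x r := rfl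
      _ = bf x q r * uu x q * uu x r := by rw [Z_cm m3 (E0_le m1)]
      _ = bf x q r * (uu x q * uu x r) := by group
      _ = _ := by rw [E0_comm H m1 m2]
  have e6 : uu x r * cm r (uu x q) * uu x q = (bf x r q) * (uu x r * uu x q) := by
    calc uu x r * cm r (uu x q) * uu x q = uu x r * bf x r q * uu x q := rfl
      _ = bf x r q * uu x r * uu x q := by rw [Z_cm m4 (E0_le m2)]
      _ = bf x r q * (uu x r * uu x q) := by group
  rw [e5, e6] at e1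
  exact mul_right_cancel e1

theorem bf_E0_left {q r : Ω} (hq : q ∈ E0 Q x) (hr : r ∈ Q) : bf x q r = 1 :=
  cm_eq_one.2 (E0_comm H hq (uu_mem h H hr))

omit h H in
theorem bf_E0_right {q r : Ω} (hr : r ∈ E0 Q x) : bf x q r = 1 := by
  unfold bf
  rw [uu_E0 hr, cm_one_right]

theorem bf_zpow_left {q r : Ω} (hq : q ∈ Q) (hr : r ∈ Q) (n : ℤ) : bf x (q ^ n) r = bf x q r ^ n :=
  cm_zpow_left h hq (E0_le (uu_mem h H hr)) n

theorem bf_zpow_right {q r : Ω} (hq : q ∈ Q) (hr : r ∈ Q) (n : ℤ) : bf x q (r ^ n) = bf x q r ^ n := by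
  rw [bf_symm h H hq (Q.zpow_mem hr n), bf_zpow_left h H hr hq, bf_symm h H hr hq]

/-- nondegeneracy -/
theorem mem_E0_of_bf {q : Ω} (hq : q ∈ Q) (hb : ∀ r ∈ Q, bf x r q = 1) : q ∈ E0 Q x := by
  have h1 : uu x q ∈ ZQ Q := mem_ZQ.2 ⟨E0_le (uu_mem h H hq), fun r hr => cm_eq_one.1 (hb r hr)⟩
  rw [uu_eq H hq] at h1
  have h2 : cm x q ∈ ZQ Q := (Subgroup.inv_mem_iff _).1 h1
  exact mem_E0.2 ⟨hq, H.hnd q hq h2⟩

theorem exists_not_E0 : ∃ y ∈ Q, y ∉ E0 Q x := by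
  obtain ⟨a, ha, b, hb, hab⟩ := h.exists_noncomm
  by_contra hcon
  push Not at hcon
  exact hab (E0_comm H (hcon a ha) (hcon b hb))

omit H in
/-- elements of `N ⊔ ⟨y⟩`. -/
theorem mem_sup_zpowers {N : Subgroup Ω} (hZ : ZQ Q ≤ N) (hN : N ≤ Q) {y : Ω} (hy : y ∈ Q) {w : Ω}
    (hw : w ∈ N ⊔ Subgroup.zpowers y) : ∃ n ∈ N, ∃ k : ℤ, w = n * y ^ k := by
  let K : Subgroup Ω :=
    { carrier := {w | ∃ n ∈ N, ∃ k : ℤ, w = n * y ^ k}
      mul_mem' := by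
        rintro a b ⟨n, hn, k, rfl⟩ ⟨m, hm, l, rfl⟩
        refine ⟨n * (y ^ k * m * (y ^ k)⁻¹), N.mul_mem hn (norm_of_Z_le h hZ hN (Q.zpow_mem hy k) hm),
          k + l, ?_⟩
        rw [zpow_add]; group
      one_mem' := ⟨1, N.one_mem, 0, by simp⟩
      inv_mem' := by
        rintro a ⟨n, hn, k, rfl⟩
        refine ⟨y ^ (-k) * n⁻¹ * (y ^ (-k))⁻¹, norm_of_Z_le h hZ hN (Q.zpow_mem hy _) (N.inv_mem hn), -k, ?_⟩
        group }
  have hK : N ⊔ Subgroup.zpowers y ≤ K := by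
    refine sup_le (fun n hn => ⟨n, hn, 0, by simp⟩) (Subgroup.zpowers_le.2 ⟨1, N.one_mem, 1, by simp⟩)
  exact hK hw

theorem exists_not_E1 (h5 : Nat.card Q = p ^ 5) (hexp : ∀ q ∈ Q, q ^ p = 1) {y : Ω} (hy : y ∈ Q)
    (hyE : y ∉ E0 Q x) : ∃ y' ∈ Q, y' ∉ E0 Q x ⊔ Subgroup.zpowers y := by
  by_contra hcon
  push Not at hcon
  have hrep : ∀ q ∈ Q, ∃ n ∈ E0 Q x, ∃ k : ℤ, q = n * y ^ k := fun q hq =>
    mem_sup_zpowers h (Z_le_E0 h H) E0_le hy (hcon q hq)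
  set u := uu x y with hu
  have huE : u ∈ E0 Q x := uu_mem h H hy
  -- an element of `E0` commuting with `y` is central
  have hcent : ∀ e ∈ E0 Q x, cm y e = 1 → e ∈ ZQ Q := by
    intro e he hye
    refine mem_ZQ.2 ⟨E0_le he, fun q hq => ?_⟩
    obtain ⟨n, hn, k, rfl⟩ := hrep q hq
    have h1 : Commute n e := E0_comm H hn he
    have h2 : Commute y e := cm_eq_one.1 hye
    exact (h1.mul_left (h2.zpow_left k)).eq
  have hb : cm y u ≠ 1 := by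
    intro h0
    have h1 : u ∈ ZQ Q := hcent u huE h0
    rw [hu, uu_eq H hy] at h1
    have h2 : cm x y ∈ ZQ Q := (Subgroup.inv_mem_iff _).1 h1
    exact hyE (mem_E0.2 ⟨hy, H.hnd y hy h2⟩)
  obtain ⟨z, hz, hz1⟩ := h.exists_Z_ne_one
  have hE : ∀ e ∈ E0 Q x, ∃ i j : ℤ, e = z ^ i * u ^ j := by
    intro e he
    obtain ⟨j, hj⟩ := h.Z_gen (cm_mem h hy (E0_le huE)) hb (cm_mem h hy (E0_le he))
    have h1 : e * u ^ (-j) ∈ ZQ Q := by
      apply hcent _ ((E0 Q x).mul_mem he ((E0 Q x).zpow_mem huE _))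
      rw [cm_mul_right h hy (E0_le he) (E0_le ((E0 Q x).zpow_mem huE _)),
        cm_zpow_right h hy (E0_le huE), ← hj, ← zpow_add, add_neg_cancel, zpow_zero]
    obtain ⟨i, hi⟩ := h.Z_gen hz hz1 h1
    refine ⟨i, j, ?_⟩
    rw [hi]; group
  -- counting
  have hfinQ : Finite Q := Finite.of_injective (Subgroup.inclusion h.le) (Subgroup.inclusion_injective h.le)
  have hpos : 0 < p := hp.out.pos
  haveI : NeZero p := ⟨hpos.ne'⟩
  have hred : ∀ g ∈ Q, ∀ k : ℤ, ∃ i : Fin p, g ^ k = g ^ (i : ℕ) := by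
    intro g hg k
    refine ⟨⟨(k % p).toNat, ?_⟩, ?_⟩
    · have h1 : 0 ≤ k % (p : ℤ) := Int.emod_nonneg _ (by exact_mod_cast hpos.ne')
      have h2 : k % (p : ℤ) < p := Int.emod_lt_of_pos _ (by exact_mod_cast hpos)
      omega
    · have h1 : 0 ≤ k % (p : ℤ) := Int.emod_nonneg _ (by exact_mod_cast hpos.ne')
      have h2 : (((k % p).toNat : ℕ) : ℤ) = k % p := Int.toNat_of_nonneg h1
      change g ^ k = g ^ (k % p).toNat
      rw [← zpow_natCast g (k % p).toNat, h2]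
      have h3 : g ^ (p : ℤ) = 1 := by rw [zpow_natCast]; exact hexp g hg
      conv_lhs => rw [← Int.emod_add_mul_ediv k p]
      rw [zpow_add, zpow_mul, h3, one_zpow, mul_one]
  let f : Fin p × Fin p × Fin p → Q := fun t =>
    ⟨z ^ (t.1 : ℕ) * u ^ (t.2.1 : ℕ) * y ^ (t.2.2 : ℕ), Q.mul_mem (Q.mul_mem (Q.pow_mem (ZQ_le Q hz) _)
      (Q.pow_mem (E0_le huE) _)) (Q.pow_mem hy _)⟩
  have hf : Function.Surjective f := by
    rintro ⟨q, hq⟩
    obtain ⟨n, hn, k, rfl⟩ := hrep q hq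
    obtain ⟨i, j, rfl⟩ := hE n hn
    obtain ⟨a, ha⟩ := hred z (ZQ_le Q hz) i
    obtain ⟨b, hb⟩ := hred u (E0_le huE) j
    obtain ⟨c, hc⟩ := hred y hy k
    have hfin : z ^ (a : ℕ) * u ^ (b : ℕ) * y ^ (c : ℕ) = z ^ i * u ^ j * y ^ k := by rw [← ha, ← hb, ← hc]
    exact ⟨(a, b, c), Subtype.ext hfin⟩
  have h6 := Nat.card_le_card_of_surjective f hf
  rw [h5, Nat.card_prod, Nat.card_prod, Nat.card_fin] at h6
  have h7 : p ^ 5 > p * (p * p) := by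
    have h8 : p * (p * p) = p ^ 3 := by ring
    rw [h8]
    exact Nat.pow_lt_pow_right hp.out.one_lt (by norm_num)
  omega

/-- generation from a basis of `Q / E0`. -/
theorem gen (h5 : Nat.card Q = p ^ 5) {y1 y2 : Ω} (hy1 : y1 ∈ Q) (hy2 : y2 ∈ Q) (h1 : y1 ∉ E0 Q x)
    (h2 : y2 ∉ E0 Q x ⊔ Subgroup.zpowers y1) {K : Subgroup Ω} (hZ : ZQ Q ≤ K) (hu1 : uu x y1 ∈ K)
    (hu2 : uu x y2 ∈ K) : E0 Q x ≤ K ∧ (y1 ∈ K → y2 ∈ K → Q ≤ K) := by
  set E := E0 Q x with hE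
  have hfinQ : Finite Q := Finite.of_injective (Subgroup.inclusion h.le) (Subgroup.inclusion_injective h.le)
  have hEQ : E ≤ Q := E0_le
  have hfinE : Finite E := Finite.of_injective (Subgroup.inclusion hEQ) (Subgroup.inclusion_injective hEQ)
  let A1 := ZQ Q ⊔ Subgroup.zpowers (uu x y1)
  let A2 := A1 ⊔ Subgroup.zpowers (uu x y2)
  let B1 := E ⊔ Subgroup.zpowers y1
  let B2 := B1 ⊔ Subgroup.zpowers y2
  have a1 : A1 ≤ E := sup_le (Z_le_E0 h H) (Subgroup.zpowers_le.2 (uu_mem h H hy1))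
  have a2 : A2 ≤ E := sup_le a1 (Subgroup.zpowers_le.2 (uu_mem h H hy2))
  have b1 : B1 ≤ Q := sup_le hEQ (Subgroup.zpowers_le.2 hy1)
  have b2 : B2 ≤ Q := sup_le b1 (Subgroup.zpowers_le.2 hy2)
  have s1 : ZQ Q < A1 := by
    refine lt_of_le_of_ne le_sup_left fun heq => h1 ?_
    have h3 : uu x y1 ∈ ZQ Q := by rw [heq]; exact (le_sup_right : _ ≤ A1) (Subgroup.mem_zpowers _)
    rw [uu_eq H hy1] at h3
    exact mem_E0.2 ⟨hy1, H.hnd y1 hy1 ((Subgroup.inv_mem_iff _).1 h3)⟩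
  have s2 : A1 < A2 := by
    refine lt_of_le_of_ne le_sup_left fun heq => h2 ?_
    have h3 : uu x y2 ∈ A1 := by rw [heq]; exact (le_sup_right : _ ≤ A2) (Subgroup.mem_zpowers _)
    obtain ⟨n, hn, k, hk⟩ := mem_sup_zpowers h (le_refl _) (ZQ_le Q) (hEQ (uu_mem h H hy1)) h3
    -- `y2 * y1 ^ (-k)` is in `E0`
    have h4 : y2 * y1 ^ (-k) ∈ E := by
      have hm : y2 * y1 ^ (-k) ∈ Q := Q.mul_mem hy2 (Q.zpow_mem hy1 _)
      refine mem_E0_of_bf h H hm fun r hr => ?_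
      rw [bf_mul_right h H hr hy2 (Q.zpow_mem hy1 _), bf_zpow_right h H hr hy1]
      have h5 : bf x r y2 = bf x r y1 ^ k := by
        unfold bf
        rw [hk, cm_mul_right h hr (ZQ_le Q hn) (Q.zpow_mem (hEQ (uu_mem h H hy1)) _), cm_Z_right hn hr, one_mul,
          cm_zpow_right h hr (hEQ (uu_mem h H hy1))]
      rw [h5, ← zpow_add, add_neg_cancel, zpow_zero]
    have h6 : y2 = y2 * y1 ^ (-k) * y1 ^ k := by group
    rw [h6]
    exact Subgroup.mul_mem _ ((le_sup_left : E ≤ B1) h4)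
      ((le_sup_right : _ ≤ B1) (Subgroup.zpow_mem_zpowers y1 k))
  have s3 : E < B1 := by
    refine lt_of_le_of_ne le_sup_left fun heq => h1 ?_
    change y1 ∈ E
    rw [heq]; exact (le_sup_right : _ ≤ B1) (Subgroup.mem_zpowers _)
  have s4 : B1 < B2 := by
    refine lt_of_le_of_ne le_sup_left fun heq => h2 ?_
    change y2 ∈ B1
    rw [heq]; exact (le_sup_right : _ ≤ B2) (Subgroup.mem_zpowers _)
  have c0 := h.card_Z
  have c1 := card_step h s1 ((a1.trans hEQ).trans h.le)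
  have c2 := card_step h s2 ((a2.trans hEQ).trans h.le)
  have c3 := card_step h s3 (b1.trans h.le)
  have c4 := card_step h s4 (b2.trans h.le)
  have hA2E : Nat.card A2 ≤ Nat.card E := Nat.card_le_card_of_injective _ (Subgroup.inclusion_injective a2)
  have hB2Q : Nat.card B2 ≤ Nat.card Q := Nat.card_le_card_of_injective _ (Subgroup.inclusion_injective b2)
  have c5 : p ^ 3 ≤ Nat.card A2 := by
    calc p ^ 3 = p * (p * p) := by ring
      _ = p * (p * Nat.card (ZQ Q)) := by rw [c0]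
      _ ≤ p * Nat.card A1 := by gcongr
      _ ≤ Nat.card A2 := c2
  have c6 : p * (p * Nat.card E) ≤ Nat.card B2 := by
    calc p * (p * Nat.card E) ≤ p * Nat.card B1 := by gcongr
      _ ≤ Nat.card B2 := c4
  have hpos : 0 < p := hp.out.pos
  have c7 : Nat.card E ≤ p ^ 3 := by
    have h3 : p * (p * Nat.card E) ≤ p * (p * p ^ 3) := by
      calc p * (p * Nat.card E) ≤ Nat.card Q := c6.trans hB2Q
        _ = p * (p * p ^ 3) := by rw [h5]; ring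
    exact Nat.le_of_mul_le_mul_left (Nat.le_of_mul_le_mul_left h3 hpos) hpos
  have hA : A2 = E := Subgroup.eq_of_le_of_card_ge a2 (c7.trans c5)
  have hB : B2 = Q := by
    refine Subgroup.eq_of_le_of_card_ge b2 ?_
    rw [h5]
    calc p ^ 5 = p * (p * p ^ 3) := by ring
      _ ≤ p * (p * Nat.card E) := by gcongr; exact c5.trans hA2E
      _ ≤ Nat.card B2 := c6
  have hEK : E ≤ K := by
    rw [← hA]
    exact sup_le (sup_le hZ (Subgroup.zpowers_le.2 hu1)) (Subgroup.zpowers_le.2 hu2)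
  refine ⟨hEK, fun k1 k2 => ?_⟩
  rw [← hB]
  exact sup_le (sup_le hEK (Subgroup.zpowers_le.2 k1)) (Subgroup.zpowers_le.2 k2)

/-- nondegeneracy on a basis -/
theorem nondeg (h5 : Nat.card Q = p ^ 5) {y1 y2 : Ω} (hy1 : y1 ∈ Q) (hy2 : y2 ∈ Q) (h1 : y1 ∉ E0 Q x)
    (h2 : y2 ∉ E0 Q x ⊔ Subgroup.zpowers y1) (h11 : bf x y1 y1 = 1) : bf x y1 y2 ≠ 1 := by
  intro h12
  apply h1
  refine mem_E0_of_bf h H hy1 fun r hr => ?_
  let K : Subgroup Ω :=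
    { carrier := {r | r ∈ Q ∧ bf x r y1 = 1}
      mul_mem' := by
        rintro a b ⟨ha, ha'⟩ ⟨hb, hb'⟩
        exact ⟨Q.mul_mem ha hb, by rw [bf_mul_left h H ha hb hy1, ha', hb', one_mul]⟩
      one_mem' := ⟨Q.one_mem, by unfold bf; exact cm_one_left _⟩
      inv_mem' := by
        rintro a ⟨ha, ha'⟩
        refine ⟨Q.inv_mem ha, ?_⟩
        have := bf_zpow_left h H ha hy1 (-1)
        rw [ha', one_zpow, zpow_neg_one] at this
        exact this }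
  have hEK : ∀ e ∈ E0 Q x, e ∈ K := fun e he => ⟨E0_le he, bf_E0_left h H he hy1⟩
  have hQK : Q ≤ K := by
    refine (gen h H h5 hy1 hy2 h1 h2 (K := K) ?_ ?_ ?_).2 ?_ ?_
    · exact fun w hw => hEK w (Z_le_E0 h H hw)
    · exact hEK _ (uu_mem h H hy1)
    · exact hEK _ (uu_mem h H hy2)
    · exact ⟨hy1, h11⟩
    · exact ⟨hy2, by rw [bf_symm h H hy2 hy1]; exact h12⟩
  exact (hQK hr).2

theorem finish (h5 : Nat.card Q = p ^ 5) (hexp : ∀ q ∈ Q, q ^ p = 1) (hxQ : x ∉ Q) (hxp : x ^ p = 1)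
    {y1 y2 z : Ω} (hy1 : y1 ∈ Q) (hy2 : y2 ∈ Q) (h1 : y1 ∉ E0 Q x)
    (h2 : y2 ∉ E0 Q x ⊔ Subgroup.zpowers y1) (hz : z ∈ ZQ Q) (hz1 : z ≠ 1) {f11 f12 f22 : ℤ}
    (h11 : bf x y1 y1 = z ^ f11) (h12 : bf x y1 y2 = z ^ f12) (h22 : bf x y2 y2 = z ^ f22) :
    ∃ u1 u2 y2' : Ω, Subgroup.closure {x, u1, u2, z, y1, y2'} = S ∧
      Rel4 p f11 f12 f22 x u1 u2 z y1 y2' := by
  -- make `y1` and `y2` commute
  obtain ⟨w0, hw0, hw01⟩ : ∃ w0 ∈ E0 Q x, cm y1 w0 ≠ 1 := by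
    by_cases hc : bf x y1 y1 = 1
    · exact ⟨uu x y2, uu_mem h H hy2, nondeg h H h5 hy1 hy2 h1 h2 hc⟩
    · exact ⟨uu x y1, uu_mem h H hy1, hc⟩
  obtain ⟨j, hj⟩ := h.Z_gen (cm_mem h hy1 (E0_le hw0)) hw01 ((ZQ Q).inv_mem (cm_mem h hy1 hy2))
  have hw : w0 ^ j ∈ E0 Q x := (E0 Q x).zpow_mem hw0 j
  have hwQ : w0 ^ j ∈ Q := E0_le hw
  set y2' := y2 * w0 ^ j with hy2'
  have hy2'Q : y2' ∈ Q := Q.mul_mem hy2 hwQ
  have hcc : cm y1 y2' = 1 := by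
    rw [hy2', cm_mul_right h hy1 hy2 hwQ, cm_zpow_right h hy1 (E0_le hw0), hj, mul_inv_cancel]
  have h2' : y2' ∉ E0 Q x ⊔ Subgroup.zpowers y1 := by
    intro hcon
    apply h2
    have : y2 = y2' * (w0 ^ j)⁻¹ := by rw [hy2']; group
    rw [this]
    exact Subgroup.mul_mem _ hcon (Subgroup.inv_mem _ ((le_sup_left : E0 Q x ≤ _) hw))
  have h12' : bf x y1 y2' = z ^ f12 := by
    rw [hy2', bf_mul_right h H hy1 hy2 hwQ, bf_E0_right hw, mul_one, h12]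
  have h22' : bf x y2' y2' = z ^ f22 := by
    have e1 : bf x y2' y2' = bf x y2' y2 := by
      conv_lhs => rw [hy2', ← hy2', bf_mul_right h H hy2'Q hy2 hwQ, bf_E0_right hw, mul_one]
    rw [e1, hy2', bf_mul_left h H hy2 hwQ hy2, bf_E0_left h H hw hy2, mul_one, h22]
  have h21' : bf x y2' y1 = z ^ f12 := by rw [bf_symm h H hy2'Q hy1, h12']
  have m1 := uu_mem h H hy1
  have m2 := uu_mem h H hy2'Q
  have n1 := mem_E0.1 m1
  have n2 := mem_E0.1 m2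
  have hxz : x * z = z * x := h.Z_comm H.hx hz
  have hcz : ∀ q ∈ Q, q * z = z * q := fun q hq => Z_cm hz hq
  have hcf : ∀ q ∈ Q, ∀ n : ℤ, z ^ n * q = q * z ^ n := fun q hq n => (Z_cm ((ZQ Q).zpow_mem hz n) hq).symm
  have hconj : ∀ q r : Ω, ∀ n : ℤ, r ∈ Q → bf x q r = z ^ n → uu x r ∈ Q →
      q * uu x r * q⁻¹ = uu x r * z ^ n := by
    intro q r n hr hb hu
    rw [conj_eq, show cm q (uu x r) = z ^ n from hb, hcf _ hu]
  refine ⟨uu x y1, uu x y2', y2', ?_, ?_⟩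
  · set T : Set Ω := {x, uu x y1, uu x y2', z, y1, y2'} with hT
    have hTS : T ⊆ S := by
      intro w hw
      simp only [hT, Set.mem_insert_iff, Set.mem_singleton_iff] at hw
      rcases hw with rfl | rfl | rfl | rfl | rfl | rfl
      · exact H.hx
      · exact h.le n1.1
      · exact h.le n2.1
      · exact h.le (ZQ_le Q hz)
      · exact h.le hy1
      · exact h.le hy2'Q
    have hxT : x ∈ Subgroup.closure T := Subgroup.subset_closure (by simp [hT])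
    have hzT : z ∈ Subgroup.closure T := Subgroup.subset_closure (by simp [hT])
    refine closure_eq h H.hx hxQ hTS hxT ?_
    refine (gen h H h5 hy1 hy2'Q h1 h2' (K := Subgroup.closure T) ?_ ?_ ?_).2 ?_ ?_
    · intro w hw
      obtain ⟨i, hi⟩ := h.Z_gen hz hz1 hw
      rw [← hi]
      exact Subgroup.zpow_mem _ hzT i
    · exact Subgroup.subset_closure (by simp [hT])
    · exact Subgroup.subset_closure (by simp [hT])
    · exact Subgroup.subset_closure (by simp [hT])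
    · exact Subgroup.subset_closure (by simp [hT])
  · exact
      { x_pow := hxp
        u1_pow := hexp _ n1.1
        u2_pow := hexp _ n2.1
        z_pow := h.Z_pow hz
        y1_pow := hexp _ hy1
        y2_pow := hexp _ hy2'Q
        xu1 := n1.2
        xu2 := n2.2
        xz := hxz
        u1u2 := E0_comm H m1 m2
        u1z := hcz _ n1.1
        u2z := hcz _ n2.1
        y1z := hcz _ hy1
        y2z := hcz _ hy2'Q
        y1y2 := cm_eq_one.1 hcc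
        y1x := by unfold uu; group
        y2x := by unfold uu; group
        y1u1 := hconj _ _ _ hy1 h11 n1.1
        y1u2 := hconj _ _ _ hy2'Q h12' n2.1
        y2u1 := hconj _ _ _ hy1 h21' n1.1
        y2u2 := hconj _ _ _ hy2'Q h22' n2.1 }

/-- the value of the form on `y2 y1 ^ m`. -/
theorem bf_comb {y1 y2 : Ω} (hy1 : y1 ∈ Q) (hy2 : y2 ∈ Q) (m : ℤ) :
    bf x (y2 * y1 ^ m) (y2 * y1 ^ m) = bf x y2 y2 * bf x y1 y2 ^ m * bf x y1 y2 ^ m * bf x y1 y1 ^ (m * m) := by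
  have hm : y1 ^ m ∈ Q := Q.zpow_mem hy1 m
  rw [bf_mul_left h H hy2 hm (Q.mul_mem hy2 hm), bf_mul_right h H hy2 hy2 hm, bf_mul_right h H hm hy2 hm,
    bf_zpow_right h H hy2 hy1, bf_zpow_right h H hm hy1, bf_zpow_left h H hy1 hy2, bf_zpow_left h H hy1 hy1,
    bf_symm h H hy2 hy1, ← zpow_mul]
  group

theorem bf_comb_left {y1 y2 : Ω} (hy1 : y1 ∈ Q) (hy2 : y2 ∈ Q) (m : ℤ) :
    bf x y1 (y2 * y1 ^ m) = bf x y1 y2 * bf x y1 y1 ^ m := by
  rw [bf_mul_right h H hy1 hy2 (Q.zpow_mem hy1 m), bf_zpow_right h H hy1 hy1]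

omit h H in
theorem not_mem_comb {N : Subgroup Ω} {y1 y2 : Ω} (h2 : y2 ∉ N ⊔ Subgroup.zpowers y1) (m : ℤ) :
    y2 * y1 ^ m ∉ N ⊔ Subgroup.zpowers y1 := by
  intro hcon
  apply h2
  have : y2 = y2 * y1 ^ m * (y1 ^ m)⁻¹ := by group
  rw [this]
  exact Subgroup.mul_mem _ hcon (Subgroup.inv_mem _ ((le_sup_right : Subgroup.zpowers y1 ≤ _)
    (Subgroup.zpow_mem_zpowers y1 m)))

end Cfsg.Agent.H744.Form

namespace Cfsg.Agent.H744

open Cfsg.Agent.H764 Cfsg.Agent.H744.Form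

theorem form4 {Ω : Type*} [Group Ω] {p : ℕ} [Fact p.Prime] {S Q : Subgroup Ω} [Finite S] (h : Ext p S Q)
    (h5 : Nat.card Q = p ^ 5) (hexp : ∀ q ∈ Q, q ^ p = 1) {x : Ω} (hx : x ∈ S) (hxQ : x ∉ Q) (hxp : x ^ p = 1)
    (hab : ∀ q ∈ Q, ∀ r ∈ Q, x * q = q * x → x * r = r * x → q * r = r * q)
    (hcomm : ∀ q ∈ Q, x * (x * q * x⁻¹ * q⁻¹) = (x * q * x⁻¹ * q⁻¹) * x)
    (hnd : ∀ q ∈ Q, x * q * x⁻¹ * q⁻¹ ∈ ZQ Q → x * q = q * x) :
    ∃ x' u1 u2 z y1 y2 : Ω, Subgroup.closure {x', u1, u2, z, y1, y2} = S ∧ z ∈ ZQ Q ∧ z ≠ 1 ∧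
      (Rel4 p 0 1 0 x' u1 u2 z y1 y2 ∨
        ∃ δ : ℤ, ¬ IsSquare (δ : ZMod p) ∧ Rel4 p 1 0 (-δ) x' u1 u2 z y1 y2) := by
  have H : Hyp4 S Q x := ⟨hx, hab, hcomm, hnd⟩
  by_cases hiso : ∃ y ∈ Q, y ∉ E0 Q x ∧ bf x y y = 1
  · obtain ⟨y1, hy1, hy1E, h11⟩ := hiso
    obtain ⟨y2, hy2, hy2E⟩ := exists_not_E1 h H h5 hexp hy1 hy1E
    have hz1 := nondeg h H h5 hy1 hy2 hy1E hy2E h11
    have hz := bf_mem h H hy1 hy2
    set z := bf x y1 y2 with hzdef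
    have hzp : z ^ (p : ℤ) = 1 := by rw [zpow_natCast]; exact h.Z_pow hz
    obtain ⟨b, hb⟩ := h.Z_gen hz hz1 (bf_mem h H hy2 hy2)
    obtain ⟨j, t, hjt⟩ := exists_half h.odd b
    have e22 : bf x (y2 * y1 ^ j) (y2 * y1 ^ j) = z ^ (0 : ℤ) := by
      rw [bf_comb h H hy1 hy2, h11, one_zpow, mul_one, ← hb, ← hzdef, ← zpow_add, ← zpow_add,
        show b + j + j = p * t by rw [← hjt]; ring, zpow_mul, hzp, one_zpow, zpow_zero]
    have e12 : bf x y1 (y2 * y1 ^ j) = z ^ (1 : ℤ) := by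
      rw [bf_comb_left h H hy1 hy2, h11, one_zpow, mul_one, ← hzdef, zpow_one]
    obtain ⟨u1, u2, y2', hcl, hrel⟩ := finish h H h5 hexp hxQ hxp hy1 (Q.mul_mem hy2 (Q.zpow_mem hy1 j)) hy1E
      (not_mem_comb hy2E j) hz hz1 (f11 := 0) (by rw [h11, zpow_zero]) e12 e22
    exact ⟨x, u1, u2, z, y1, y2', hcl, hz, hz1, Or.inl hrel⟩
  · push Not at hiso
    obtain ⟨y1, hy1, hy1E⟩ := exists_not_E0 h H
    obtain ⟨y2, hy2, hy2E⟩ := exists_not_E1 h H h5 hexp hy1 hy1E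
    have hz1 := hiso y1 hy1 hy1E
    have hz := bf_mem h H hy1 hy1
    set z := bf x y1 y1 with hzdef
    have hzp : z ^ (p : ℤ) = 1 := by rw [zpow_natCast]; exact h.Z_pow hz
    obtain ⟨c, hc⟩ := h.Z_gen hz hz1 (bf_mem h H hy1 hy2)
    set y3 := y2 * y1 ^ (-c) with hy3def
    have hy3 : y3 ∈ Q := Q.mul_mem hy2 (Q.zpow_mem hy1 _)
    have hy3E : y3 ∉ E0 Q x ⊔ Subgroup.zpowers y1 := not_mem_comb hy2E (-c)
    have e12 : bf x y1 y3 = z ^ (0 : ℤ) := by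
      rw [hy3def, bf_comb_left h H hy1 hy2, ← hc, ← hzdef, ← zpow_add, add_neg_cancel]
    obtain ⟨b, hb⟩ := h.Z_gen hz hz1 (bf_mem h H hy3 hy3)
    obtain ⟨u1, u2, y2', hcl, hrel⟩ := finish h H h5 hexp hxQ hxp hy1 hy3 hy1E hy3E hz hz1 (f11 := 1)
      (by rw [zpow_one]) e12 hb.symm
    refine ⟨x, u1, u2, z, y1, y2', hcl, hz, hz1, Or.inr ⟨-b, ?_, by rw [neg_neg]; exact hrel⟩⟩
    rintro ⟨r, hr⟩
    obtain ⟨r, rfl⟩ := ZMod.intCast_surjective r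
    have h1 : ((b + r * r : ℤ) : ZMod p) = 0 := by
      push_cast at hr ⊢
      rw [← hr]; ring
    obtain ⟨t, ht⟩ := (ZMod.intCast_zmod_eq_zero_iff_dvd _ p).1 h1
    have hv : bf x (y3 * y1 ^ r) (y3 * y1 ^ r) = 1 := by
      rw [bf_comb h H hy1 hy3, e12, zpow_zero, one_zpow, mul_one, mul_one, ← hb, ← hzdef, ← zpow_add, ht,
        zpow_mul, hzp, one_zpow]
    refine hiso _ (Q.mul_mem hy3 (Q.zpow_mem hy1 r)) ?_ hv
    intro hcon
    exact not_mem_comb hy3E r ((le_sup_left : E0 Q x ≤ _) hcon)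

end Cfsg.Agent.H744
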