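import Cfsg.Agent.H744.FormBase

/-!
# The presentation `RelG` (for S5177, task 53)
-/

set_option autoImplicit false

namespace Cfsg.Agent.H744.Form

open Cfsg.Agent.H764

variable {Ω : Type*} [Group Ω] {p : ℕ} [hp : Fact p.Prime] {S Q : Subgroup Ω} [Finite S]

/-- The uniserial action of `x` on `Q / Z`. -/
structure Chain (x y e k a : Ω) : Prop where
  he : e = cm x y
  hk : k = cm x e
  ha : a = cm x k
  hxa : x * a = a * x

theorem Chain.mem (h : Ext p S Q) {x y e k a : Ω} (hc : Chain x y e k a) (hx : x ∈ S) (hy : y ∈ Q) :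
    e ∈ Q ∧ k ∈ Q ∧ a ∈ Q := by
  have h0 : ∀ q ∈ Q, cm x q ∈ Q := fun q hq => Q.mul_mem (h.conj_mem hx hq) (Q.inv_mem hq)
  have he : e ∈ Q := by rw [hc.he]; exact h0 y hy
  have hk : k ∈ Q := by rw [hc.hk]; exact h0 e he
  exact ⟨he, hk, by rw [hc.ha]; exact h0 k hk⟩

/-- `Q` is generated by `y, e, k, a` and its centre. -/
theorem Chain.gen (h : Ext p S Q) (h5 : Nat.card Q = p ^ 5) {x y e k a : Ω} (hc : Chain x y e k a) (hx : x ∈ S)
    (hy : y ∈ Q) (haZ : a ∉ ZQ Q) {K : Subgroup Ω} (hZ : ZQ Q ≤ K) (hyK : y ∈ K) (heK : e ∈ K) (hkK : k ∈ K)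
    (haK : a ∈ K) : Q ≤ K := by
  obtain ⟨he, hk, ha⟩ := hc.mem h hx hy
  have hZQ := ZQ_le Q
  have hQS := h.le
  have hxZ : ∀ w ∈ ZQ Q, cm x w = 1 := fun w hw => cm_eq_one.2 (h.Z_comm hx hw)
  let A1 := ZQ Q ⊔ Subgroup.zpowers a
  let A2 := A1 ⊔ Subgroup.zpowers k
  let A3 := A2 ⊔ Subgroup.zpowers e
  let A4 := A3 ⊔ Subgroup.zpowers y
  have l1 : A1 ≤ Q := sup_le hZQ (Subgroup.zpowers_le.2 ha)
  have l2 : A2 ≤ Q := sup_le l1 (Subgroup.zpowers_le.2 hk)
  have l3 : A3 ≤ Q := sup_le l2 (Subgroup.zpowers_le.2 he)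
  have l4 : A4 ≤ Q := sup_le l3 (Subgroup.zpowers_le.2 hy)
  have z1 : ZQ Q ≤ A1 := le_sup_left
  have z2 : ZQ Q ≤ A2 := z1.trans le_sup_left
  have z3 : ZQ Q ≤ A3 := z2.trans le_sup_left
  have a1 : a ∈ A1 := (le_sup_right : _ ≤ A1) (Subgroup.mem_zpowers a)
  have k2 : k ∈ A2 := (le_sup_right : _ ≤ A2) (Subgroup.mem_zpowers k)
  have e3 : e ∈ A3 := (le_sup_right : _ ≤ A3) (Subgroup.mem_zpowers e)
  have y4 : y ∈ A4 := (le_sup_right : _ ≤ A4) (Subgroup.mem_zpowers y)
  have xa1 : ∀ w ∈ A1, x * w = w * x := by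
    have : A1 ≤ Subgroup.centralizer {x} := by
      refine sup_le ?_ (Subgroup.zpowers_le.2 ?_)
      · intro w hw
        rw [Subgroup.mem_centralizer_singleton_iff]
        exact (h.Z_comm hx hw).symm
      · rw [Subgroup.mem_centralizer_singleton_iff]
        exact hc.hxa.symm
    intro w hw
    exact (Subgroup.mem_centralizer_singleton_iff.1 (this hw)).symm
  have s1 : ZQ Q < A1 := by
    refine lt_of_le_of_ne z1 ?_
    intro heq
    apply haZ
    rw [heq]; exact a1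
  have s2 : A1 < A2 := by
    refine lt_of_le_of_ne le_sup_left ?_
    intro heq
    have hk1 : k ∈ A1 := by rw [heq]; exact k2
    have : a = 1 := by rw [hc.ha, cm_eq_one.2 (xa1 k hk1)]
    exact haZ (this ▸ (ZQ Q).one_mem)
  have hD1 : A2 ≤ Dsub h x A1 z1 l1 := by
    refine sup_le (fun w hw => ?_) (Subgroup.zpowers_le.2 ?_)
    · rw [mem_Dsub]
      exact ⟨l1 hw, by rw [cm_eq_one.2 (xa1 w hw)]; exact A1.one_mem⟩
    · rw [mem_Dsub]
      exact ⟨hk, by rw [← hc.ha]; exact a1⟩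
  have s3 : A2 < A3 := by
    refine lt_of_le_of_ne le_sup_left ?_
    intro heq
    have he1 : e ∈ A2 := by rw [heq]; exact e3
    have hk1 : k ∈ A1 := by rw [hc.hk]; exact ((mem_Dsub h z1 l1).1 (hD1 he1)).2
    have : a = 1 := by rw [hc.ha, cm_eq_one.2 (xa1 k hk1)]
    exact haZ (this ▸ (ZQ Q).one_mem)
  have hD2 : A3 ≤ Dsub h x A2 z2 l2 := by
    refine sup_le (fun w hw => ?_) (Subgroup.zpowers_le.2 ?_)
    · rw [mem_Dsub]
      exact ⟨l2 hw, le_sup_left (a := A1) ((mem_Dsub h z1 l1).1 (hD1 hw)).2⟩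
    · rw [mem_Dsub]
      exact ⟨he, by rw [← hc.hk]; exact k2⟩
  have s4 : A3 < A4 := by
    refine lt_of_le_of_ne le_sup_left ?_
    intro heq
    have hy1 : y ∈ A3 := by rw [heq]; exact y4
    have he1 : e ∈ A2 := by rw [hc.he]; exact ((mem_Dsub h z2 l2).1 (hD2 hy1)).2
    have hk1 : k ∈ A1 := by rw [hc.hk]; exact ((mem_Dsub h z1 l1).1 (hD1 he1)).2
    have : a = 1 := by rw [hc.ha, cm_eq_one.2 (xa1 k hk1)]
    exact haZ (this ▸ (ZQ Q).one_mem)
  have c0 := h.card_Z
  have c1 := card_step h s1 (l1.trans hQS)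
  have c2 := card_step h s2 (l2.trans hQS)
  have c3 := card_step h s3 (l3.trans hQS)
  have c4 := card_step h s4 (l4.trans hQS)
  have c5 : p ^ 5 ≤ Nat.card A4 := by
    calc p ^ 5 = p * (p * (p * (p * p))) := by ring
      _ = p * (p * (p * (p * Nat.card (ZQ Q)))) := by rw [c0]
      _ ≤ p * (p * (p * Nat.card A1)) := by gcongr
      _ ≤ p * (p * Nat.card A2) := by gcongr
      _ ≤ p * Nat.card A3 := by gcongr
      _ ≤ Nat.card A4 := c4
  have hfinQ : Finite Q := Finite.of_injective (Subgroup.inclusion hQS) (Subgroup.inclusion_injective hQS)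
  have hQ4 : A4 = Q := Subgroup.eq_of_le_of_card_ge l4 (by rw [h5]; exact c5)
  rw [← hQ4]
  refine sup_le (sup_le (sup_le (sup_le hZ ?_) ?_) ?_) ?_
  · exact Subgroup.zpowers_le.2 haK
  · exact Subgroup.zpowers_le.2 hkK
  · exact Subgroup.zpowers_le.2 heK
  · exact Subgroup.zpowers_le.2 hyK

/-- `p` divides `2 j + b` for a suitable `j`. -/
theorem exists_half {p : ℕ} (hp : Odd p) (b : ℤ) : ∃ j t : ℤ, b + 2 * j = p * t := by
  obtain ⟨k, hk⟩ := hp
  refine ⟨-b * (k + 1), -b, ?_⟩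
  rw [hk]
  push_cast
  ring

theorem cm_conj (h : Ext p S Q) {x q r : Ω} (hx : x ∈ S) (hq : q ∈ Q) (hr : r ∈ Q) :
    cm (cm x q * q) (cm x r * r) = cm q r := by
  rw [← conj_eq, ← conj_eq]
  have h1 : cm (x * q * x⁻¹) (x * r * x⁻¹) = x * cm q r * x⁻¹ := by unfold cm; group
  rw [h1, h.Z_comm hx (cm_mem h hq hr)]
  group

theorem Chain.rels (h : Ext p S Q) (h5 : Nat.card Q = p ^ 5) {x y e k a : Ω} (hc : Chain x y e k a) (hx : x ∈ S)
    (hy : y ∈ Q) (haZ : a ∉ ZQ Q) :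
    cm k a = 1 ∧ cm e a = 1 ∧ cm e k = (cm y a)⁻¹ ∧ cm y k = cm y a ∧ cm y a ≠ 1 := by
  obtain ⟨he, hk, ha⟩ := hc.mem h hx hy
  have hQx : ∀ q ∈ Q, cm x q ∈ Q := fun q hq => Q.mul_mem (h.conj_mem hx hq) (Q.inv_mem hq)
  have xa : cm x a = 1 := cm_eq_one.2 hc.hxa
  have expand : ∀ {q r : Ω}, q ∈ Q → r ∈ Q →
      cm (cm x q) (cm x r) * cm (cm x q) r * (cm q (cm x r) * cm q r) = cm q r := by
    intro q r hq hr
    have h1 := cm_conj h hx hq hr
    rw [cm_mul_left h (hQx q hq) hq (Q.mul_mem (hQx r hr) hr), cm_mul_right h (hQx q hq) (hQx r hr) hr,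
      cm_mul_right h hq (hQx r hr) hr] at h1
    exact h1
  have r1 : cm k a = 1 := by
    have h1 := expand he ha
    rw [← hc.hk, xa, cm_one_right, cm_one_right, one_mul, one_mul] at h1
    exact mul_eq_right.1 h1
  have r2 : cm e a = 1 := by
    have h1 := expand he hk
    rw [← hc.hk, ← hc.ha, r1, cm_self, one_mul, one_mul] at h1
    exact mul_eq_right.1 h1
  have r3 : cm e k * cm y a = 1 := by
    have h1 := expand hy hk
    rw [← hc.he, ← hc.ha, r2, one_mul, ← mul_assoc] at h1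
    exact mul_eq_right.1 h1
  have r4 : cm e k * cm y k = 1 := by
    have h1 := expand hy he
    rw [← hc.he, ← hc.hk, cm_self, mul_one, ← mul_assoc] at h1
    exact mul_eq_right.1 h1
  have r5 : cm e k = (cm y a)⁻¹ := eq_inv_of_mul_eq_one_left r3
  have r6 : cm y k = cm y a := by
    have : cm y k = (cm e k)⁻¹ := eq_inv_of_mul_eq_one_right r4
    rw [this, r5, inv_inv]
  refine ⟨r1, r2, r5, r6, ?_⟩
  intro r0
  -- then `a` is central in `Q`
  apply haZ
  have hQc : Q ≤ Q ⊓ Subgroup.centralizer {a} := by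
    refine hc.gen h h5 hx hy haZ ?_ ?_ ?_ ?_ ?_
    · intro w hw
      exact ⟨ZQ_le Q hw, Subgroup.mem_centralizer_singleton_iff.2 (Z_cm hw ha).symm⟩
    · exact ⟨hy, Subgroup.mem_centralizer_singleton_iff.2 (cm_eq_one.1 r0)⟩
    · exact ⟨he, Subgroup.mem_centralizer_singleton_iff.2 (cm_eq_one.1 r2)⟩
    · exact ⟨hk, Subgroup.mem_centralizer_singleton_iff.2 (cm_eq_one.1 r1)⟩
    · exact ⟨ha, Subgroup.mem_centralizer_singleton_iff.2 rfl⟩
  rw [mem_ZQ]
  exact ⟨ha, fun q hq => Subgroup.mem_centralizer_singleton_iff.1 (hQc hq).2⟩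

end Cfsg.Agent.H744.Form

namespace Cfsg.Agent.H744

open Cfsg.Agent.H764 Cfsg.Agent.H744.Form

theorem formG {Ω : Type*} [Group Ω] {p : ℕ} [Fact p.Prime] {S Q : Subgroup Ω} [Finite S] (h : Ext p S Q)
    (h5 : Nat.card Q = p ^ 5) (hexp : ∀ q ∈ Q, q ^ p = 1) {x : Ω} (hx : x ∈ S) (hxQ : x ∉ Q) (hxp : x ^ p = 1)
    {y e k a : Ω} (hy : y ∈ Q) (he : e = x * y * x⁻¹ * y⁻¹) (hk : k = x * e * x⁻¹ * e⁻¹)
    (ha : a = x * k * x⁻¹ * k⁻¹) (haZ : a ∉ ZQ Q) (hxa : x * a = a * x) :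
    5 ≤ p ∧ ∃ x' y' e' k' a' z' : Ω, Subgroup.closure {x', y', e', k', a', z'} = S ∧ z' ∈ ZQ Q ∧ z' ≠ 1 ∧
      RelG p x' y' e' k' a' z' := by
  have hpp : p.Prime := Fact.out
  have hc : Chain x y e k a := ⟨he, hk, ha, hxa⟩
  obtain ⟨heQ, hkQ, haQ⟩ := hc.mem h hx hy
  obtain ⟨r1, r2, r3, r4, r0⟩ := hc.rels h h5 hx hy haZ
  set z := cm y a with hz
  have hzZ : z ∈ ZQ Q := cm_mem h hy haQ
  have hzp : z ^ (p : ℤ) = 1 := by rw [zpow_natCast]; exact h.Z_pow hzZ
  have hxz : x * z = z * x := h.Z_comm hx hzZ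
  refine ⟨?_, ?_⟩
  · -- `p ≠ 2, 3`
    have h2 := h.ne_two
    have h3 : p ≠ 3 := by
      rintro rfl
      have e1 : x * y * x⁻¹ = e * y := by rw [conj_eq, ← hc.he]
      have e2 : x * e * x⁻¹ = k * e := by rw [conj_eq, ← hc.hk]
      have e3 : x * k * x⁻¹ = a * k := by rw [conj_eq, ← hc.ha]
      have e4 : x ^ 3 * y * (x ^ 3)⁻¹ = (a * k) * (k * e) * (k * e) * (e * y) := by
        calc x ^ 3 * y * (x ^ 3)⁻¹ = x * (x * (x * y * x⁻¹) * x⁻¹) * x⁻¹ := by rw [pow_three']; group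
          _ = x * (x * (e * y) * x⁻¹) * x⁻¹ := by rw [e1]
          _ = x * ((x * e * x⁻¹) * (x * y * x⁻¹)) * x⁻¹ := by group
          _ = x * (k * e * (e * y)) * x⁻¹ := by rw [e1, e2]
          _ = (x * k * x⁻¹) * (x * e * x⁻¹) * (x * e * x⁻¹) * (x * y * x⁻¹) := by group
          _ = _ := by rw [e1, e2, e3]
      rw [hxp, one_mul, inv_one, mul_one] at e4
      have e5 : a * k * k * (e * k) * e * e = 1 := by
        have : y = (a * k * k * (e * k) * e * e) * y := by
          calc y = (a * k) * (k * e) * (k * e) * (e * y) := e4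
            _ = _ := by group
        exact (mul_eq_right.1 this.symm)
      have e6 : e * k = cm e k * (k * e) := by unfold cm; group
      apply haZ
      have hcZ : cm e k ∈ ZQ Q := cm_mem h heQ hkQ
      have e7 : a * cm e k = 1 := by
        have hk3 : k ^ 3 = 1 := hexp k hkQ
        have he3 : e ^ 3 = 1 := hexp e heQ
        have hcc : k * k * cm e k = cm e k * (k * k) := Z_cm hcZ (Q.mul_mem hkQ hkQ)
        calc a * cm e k = a * cm e k * (k ^ 3) * (e ^ 3) := by rw [hk3, he3, mul_one, mul_one]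
          _ = a * (cm e k * (k * k)) * k * e * e * e := by rw [pow_three', pow_three']; group
          _ = a * (k * k * cm e k) * k * e * e * e := by rw [hcc]
          _ = a * k * k * (cm e k * (k * e)) * e * e := by group
          _ = a * k * k * (e * k) * e * e := by rw [← e6]
          _ = 1 := e5
      rw [eq_inv_of_mul_eq_one_left e7]
      exact (ZQ Q).inv_mem hcZ
    have h4 : p ≠ 4 := by
      rintro rfl
      exact absurd hpp (by norm_num)
    have := hpp.two_le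
    omega
  · obtain ⟨b, hb⟩ := h.Z_gen hzZ r0 (cm_mem h hy heQ)
    obtain ⟨j, t, hjt⟩ := exists_half h.odd b
    -- the new elements
    have hkjQ : k ^ j ∈ Q := Q.zpow_mem hkQ j
    have hajQ : a ^ j ∈ Q := Q.zpow_mem haQ j
    have hzj : z ^ j ∈ ZQ Q := (ZQ Q).zpow_mem hzZ j
    have ck : k * a = a * k := cm_eq_one.1 r1
    have cka : Commute k a := ck
    have cxa : Commute x a := hxa
    have cxz : Commute x z := hxz
    set y' := y * k ^ j with hy'
    set e' := e * a ^ j * z ^ j with he'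
    have hy'Q : y' ∈ Q := Q.mul_mem hy hkjQ
    have he'Q : e' ∈ Q := Q.mul_mem (Q.mul_mem heQ hajQ) (ZQ_le Q hzj)
    have n1 : e' = cm x y' := by
      have e1 : x * y * x⁻¹ = e * y := by rw [conj_eq, ← hc.he]
      have e3 : x * k * x⁻¹ = a * k := by rw [conj_eq, ← hc.ha]
      have e4 : x * k ^ j * x⁻¹ = a ^ j * k ^ j := by
        rw [← conj_zpow, e3, (cka.symm).mul_zpow]
      have e5 : y * a ^ j = z ^ j * a ^ j * y := by
        have := cm_zpow_right h hy haQ j
        rw [← hz] at this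
        calc y * a ^ j = cm y (a ^ j) * (a ^ j * y) := by unfold cm; group
          _ = z ^ j * a ^ j * y := by rw [this]; group
      have e6 : z ^ j * (e * a ^ j) = e * a ^ j * z ^ j := (Z_cm hzj (Q.mul_mem heQ hajQ)).symm
      have e7 : e * z ^ j = z ^ j * e := Z_cm hzj heQ
      calc e' = e * a ^ j * z ^ j := rfl
        _ = z ^ j * (e * a ^ j) := e6.symm
        _ = (z ^ j * e) * a ^ j := by group
        _ = e * (z ^ j * a ^ j * y) * y⁻¹ := by rw [← e7]; group
        _ = e * (y * a ^ j) * y⁻¹ := by rw [e5]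
        _ = (e * y) * (a ^ j * k ^ j) * (y * k ^ j)⁻¹ := by group
        _ = (x * y * x⁻¹) * (x * k ^ j * x⁻¹) * (y * k ^ j)⁻¹ := by rw [e1, e4]
        _ = cm x y' := by rw [hy']; unfold cm; group
    have n2 : k = cm x e' := by
      have e2 : x * e * x⁻¹ = k * e := by rw [conj_eq, ← hc.hk]
      have e3 : x * (a ^ j * z ^ j) = (a ^ j * z ^ j) * x :=
        ((cxa.zpow_right j).mul_right (cxz.zpow_right j)).eq
      calc k = (k * e) * (a ^ j * z ^ j) * (e * (a ^ j * z ^ j))⁻¹ := by group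
        _ = (x * e * x⁻¹) * ((a ^ j * z ^ j) * x) * x⁻¹ * (e * (a ^ j * z ^ j))⁻¹ := by rw [e2]; group
        _ = (x * e * x⁻¹) * (x * (a ^ j * z ^ j)) * x⁻¹ * (e * (a ^ j * z ^ j))⁻¹ := by rw [e3]
        _ = cm x e' := by rw [he']; unfold cm; group
    have hc' : Chain x y' e' k a := ⟨n1, n2, hc.ha, hxa⟩
    obtain ⟨s1, s2, s3, s4, s0⟩ := hc'.rels h h5 hx hy'Q haZ
    have hza : cm y' a = z := by
      rw [hy', cm_mul_left h hy hkjQ haQ, cm_zpow_left h hkQ haQ, r1, one_zpow, mul_one]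
    rw [hza] at s3 s4 s0
    have hye : cm y' e' = 1 := by
      have hka : cm k e = z := by rw [cm_inv_swap e k, r3, inv_inv]
      rw [he', cm_mul_right h hy'Q (Q.mul_mem heQ hajQ) (ZQ_le Q hzj), cm_Z_right hzj hy'Q, mul_one,
        cm_mul_right h hy'Q heQ hajQ, hy', cm_mul_left h hy hkjQ heQ, cm_zpow_left h hkQ heQ, hka, ← hb,
        cm_zpow_right h (Q.mul_mem hy hkjQ) haQ, ← hy', hza, ← zpow_add, ← zpow_add]
      have : b + j + j = p * t := by rw [← hjt]; ring
      rw [this, zpow_mul, hzp, one_zpow]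
    refine ⟨x, y', e', k, a, z, ?_, hzZ, r0, ?_⟩
    · refine closure_eq h hx hxQ ?_ (Subgroup.subset_closure (by simp)) ?_
      · intro w hw
        simp only [Set.mem_insert_iff, Set.mem_singleton_iff] at hw
        rcases hw with rfl | rfl | rfl | rfl | rfl | rfl
        · exact hx
        · exact h.le hy'Q
        · exact h.le he'Q
        · exact h.le hkQ
        · exact h.le haQ
        · exact h.le (ZQ_le Q hzZ)
      · refine hc'.gen h h5 hx hy'Q haZ ?_ (Subgroup.subset_closure (by simp)) (Subgroup.subset_closure (by simp))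
          (Subgroup.subset_closure (by simp)) (Subgroup.subset_closure (by simp))
        intro w hw
        obtain ⟨i, hi⟩ := h.Z_gen hzZ r0 hw
        rw [← hi]
        exact Subgroup.zpow_mem _ (Subgroup.subset_closure (by simp)) i
    · have hcz : ∀ q ∈ Q, q * z = z * q := fun q hq => Z_cm hzZ hq
      exact
        { x_pow := hxp
          y_pow := hexp _ hy'Q
          e_pow := hexp _ he'Q
          k_pow := hexp _ hkQ
          a_pow := hexp _ haQ
          z_pow := h.Z_pow hzZ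
          xy := by rw [conj_eq, ← n1]
          xe := by rw [conj_eq, ← n2]
          xk := by rw [conj_eq, ← hc.ha]
          xa := hxa
          xz := hxz
          yz := hcz _ hy'Q
          ez := hcz _ he'Q
          kz := hcz _ hkQ
          az := hcz _ haQ
          ye := cm_eq_one.1 hye
          yk := by rw [conj_eq, s4]
          ya := by rw [conj_eq, hza]
          ek := by rw [conj_eq, s3]
          ea := cm_eq_one.1 s2
          ka := cm_eq_one.1 s1 }

end Cfsg.Agent.H744
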