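import Cfsg.Agent.H744.SL4T
import Cfsg.Agent.H638.G2Iso

/-!
# The relations `RelG` in `G₂(p)`, `p ≥ 5` (target for S5177, task 11)
-/

set_option autoImplicit false

namespace Cfsg.Agent.H744.G2T

open Matrix Cfsg.Agent.H638.G2Rep Cfsg.Agent.H638.G2Link

def mX : Matrix (Fin 8) (Fin 8) ℤ :=
  !![1, 0, 0, 0, 0, 0, -6, 0; 0, 1, 0, 0, 0, 0, 0, 0; 0, 0, 1, 0, 0, 0, 0, 0; 6, 0, 0, 1, 0, 0, -36, -6; 0, 0, -6, 0, 1, 0, 0, 0; 0, 6, 0, 0, 0, 1, 0, 0; 0, 0, 0, 0, 0, 0, 1, 0; 0, 0, 0, 0, 0, 0, 6, 1]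
def mY10 : Matrix (Fin 8) (Fin 8) ℤ :=
  !![1, 0, 0, 0, 0, 0, 0, 0; 0, 1, 0, -1, 0, 0, 0, 0; 0, 0, 1, 0, 0, 0, 0, 0; 0, 0, 0, 1, 0, 0, 0, 0; 0, 0, 0, 0, 1, 0, 0, 0; 0, 0, 0, 0, 0, 1, 0, 0; 0, 0, 0, 0, 1, 0, 1, 0; 0, 0, 0, 0, 0, 0, 0, 1]
def mY3 : Matrix (Fin 8) (Fin 8) ℤ :=
  !![1, 0, 6, 0, 0, 0, 0, 0; 0, 1, 0, 0, 0, 0, -6, 0; 0, 0, 1, 0, 0, 0, 0, 0; 0, 0, 0, 1, 6, 0, 0, 0; 0, 0, 0, 0, 1, 0, 0, 0; -6, 0, -36, 0, 0, 1, 0, 6; 0, 0, 0, 0, 0, 0, 1, 0; 0, 0, -6, 0, 0, 0, 0, 1]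
def mY : Matrix (Fin 8) (Fin 8) ℤ :=
  !![1, 0, 6, 0, 0, 0, 0, 0; 0, 1, 0, -1, -6, 0, -6, 0; 0, 0, 1, 0, 0, 0, 0, 0; 0, 0, 0, 1, 6, 0, 0, 0; 0, 0, 0, 0, 1, 0, 0, 0; -6, 0, -36, 0, 0, 1, 0, 6; 0, 0, 0, 0, 1, 0, 1, 0; 0, 0, -6, 0, 0, 0, 0, 1]
def mE : Matrix (Fin 8) (Fin 8) ℤ :=
  !![1, 0, -36, 0, -6, 0, 0, 0; 6, 1, -108, 0, -36, 0, 36, -6; 0, 0, 1, 0, 0, 0, 0, 0; 0, 0, -108, 1, -36, 0, 0, 0; 0, 0, 0, 0, 1, 0, 0, 0; 36, 0, -648, -6, -108, 1, 108, -36; 0, 0, 6, 0, 0, 0, 1, 0; 0, 0, 36, 0, 6, 0, 0, 1]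
def mK : Matrix (Fin 8) (Fin 8) ℤ :=
  !![1, 0, -72, 0, 0, 0, 0, 0; 0, 1, -648, 0, 0, 0, 72, 0; 0, 0, 1, 0, 0, 0, 0, 0; 0, 0, -1296, 1, -72, 0, 0, 0; 0, 0, 0, 0, 1, 0, 0, 0; 72, 0, -5184, 0, 648, 1, 1296, -72; 0, 0, 0, 0, 0, 0, 1, 0; 0, 0, 72, 0, 0, 0, 0, 1]
def mA : Matrix (Fin 8) (Fin 8) ℤ :=
  !![1, 0, 0, 0, 0, 0, 0, 0; 0, 1, 0, 0, 0, 0, 0, 0; 0, 0, 1, 0, 0, 0, 0, 0; 0, 0, -1296, 1, 0, 0, 0, 0; 0, 0, 0, 0, 1, 0, 0, 0; 0, 0, 0, 0, 0, 1, 1296, 0; 0, 0, 0, 0, 0, 0, 1, 0; 0, 0, 0, 0, 0, 0, 0, 1]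
def mZ : Matrix (Fin 8) (Fin 8) ℤ :=
  !![1, 0, 0, 0, 0, 0, 0, 0; 0, 1, 1296, 0, 0, 0, 0, 0; 0, 0, 1, 0, 0, 0, 0, 0; 0, 0, 0, 1, 0, 0, 0, 0; 0, 0, 0, 0, 1, 0, 0, 0; 0, 0, 0, 0, -1296, 1, 0, 0; 0, 0, 0, 0, 0, 0, 1, 0; 0, 0, 0, 0, 0, 0, 0, 1]

/-- reduction modulo `p` -/
abbrev red (p : ℕ) : Matrix (Fin 8) (Fin 8) ℤ →+* Matrix (Fin 8) (Fin 8) (ZMod p) :=
  (Int.castRingHom (ZMod p)).mapMatrix

theorem ev_red {R : Type*} [CommRing R] (t : ℤ) (A : SP) :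
    (Int.castRingHom R).mapMatrix (ev t A) = ev ((t : ℤ) : R) A := by
  induction A with
  | nil => rw [ev_nil, ev_nil, map_zero]
  | cons p A ih =>
    rw [ev_cons, ev_cons, map_add, ih]
    congr 1
    ext i j
    simp only [term, RingHom.mapMatrix_apply, Matrix.map_apply, Matrix.single_apply]
    split_ifs
    · simp
    · simp

def i2 : Fin Cfsg.Lie.chevG2.nroots := ⟨2, by decide⟩
def i3 : Fin Cfsg.Lie.chevG2.nroots := ⟨3, by decide⟩
def i10 : Fin Cfsg.Lie.chevG2.nroots := ⟨10, by decide⟩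

theorem ek_of {G : Type*} [Group G] {e k z : G} (h : z * (e * k) = k * e) : e * k * e⁻¹ = z⁻¹ * k := by
  have h1 : e * k = z⁻¹ * (k * e) := by rw [← h]; group
  rw [h1]; group

theorem evX : ev (6 : ℤ) (Y i2) = mX := by decide +kernel
theorem evY10 : ev (1 : ℤ) (Y i10) = mY10 := by decide +kernel
theorem evY3 : ev (-6 : ℤ) (Y i3) = mY3 := by decide +kernel
theorem mulY : mY10 * mY3 = mY := by decide +kernel
theorem relE : mE * (mY * mX) = mX * mY := by decide +kernel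
theorem relK : mK * (mE * mX) = mX * mE := by decide +kernel
theorem relA : mA * (mK * mX) = mX * mK := by decide +kernel
theorem relZ : mZ * (mA * mY) = mY * mA := by decide +kernel
theorem c_xa : mX * mA = mA * mX := by decide +kernel
theorem c_xz : mX * mZ = mZ * mX := by decide +kernel
theorem c_yz : mY * mZ = mZ * mY := by decide +kernel
theorem c_ez : mE * mZ = mZ * mE := by decide +kernel
theorem c_kz : mK * mZ = mZ * mK := by decide +kernel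
theorem c_az : mA * mZ = mZ * mA := by decide +kernel
theorem c_ye : mY * mE = mE * mY := by decide +kernel
theorem c_ea : mE * mA = mA * mE := by decide +kernel
theorem c_ka : mK * mA = mA * mK := by decide +kernel
theorem r_yk : mY * mK = mZ * mK * mY := by decide +kernel
theorem r_ek : mZ * (mE * mK) = mK * mE := by decide +kernel
theorem n_x : (mX - 1) * (mX - 1) * (mX - 1) = 0 := by decide +kernel
theorem n_y : (mY - 1) * (mY - 1) * (mY - 1) = 0 := by decide +kernel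
theorem n_e : (mE - 1) * (mE - 1) * (mE - 1) = 0 := by decide +kernel
theorem n_k : (mK - 1) * (mK - 1) * (mK - 1) = 0 := by decide +kernel
theorem n_a : (mA - 1) * (mA - 1) * (mA - 1) = 0 := by decide +kernel
theorem n_z : (mZ - 1) * (mZ - 1) * (mZ - 1) = 0 := by decide +kernel

variable {p : ℕ} [Fact p.Prime]

/-- the element `g` of `G₂(p)` is the reduction of the integral matrix `M`. -/
def Is (g : ↥(Cfsg.Lie.G2 (ZMod p))) (M : Matrix (Fin 8) (Fin 8) ℤ) : Prop :=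
  ((g : GL (Fin 8) (ZMod p)) : Matrix (Fin 8) (Fin 8) (ZMod p)) = red p M

theorem Is.mul {g h : ↥(Cfsg.Lie.G2 (ZMod p))} {M N : Matrix (Fin 8) (Fin 8) ℤ} (hg : Is g M) (hh : Is h N) :
    Is (g * h) (M * N) := by
  unfold Is at *
  rw [Subgroup.coe_mul, Units.val_mul, hg, hh, map_mul]

theorem Is.eq {g h : ↥(Cfsg.Lie.G2 (ZMod p))} {M N : Matrix (Fin 8) (Fin 8) ℤ} (hg : Is g M) (hh : Is h N)
    (e : M = N) : g = h := by
  apply Subtype.ext
  apply Units.ext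
  exact hg.trans ((congrArg _ e).trans hh.symm)

/-- commutators -/
theorem Is.comm {g h : ↥(Cfsg.Lie.G2 (ZMod p))} {M N E : Matrix (Fin 8) (Fin 8) ℤ} (hg : Is g M) (hh : Is h N)
    (e : E * (N * M) = M * N) : Is (g * h * g⁻¹ * h⁻¹) E := by
  have h1 : (g * h * g⁻¹ * h⁻¹) * (h * g) = g * h := by group
  have h2 := congrArg (fun u : ↥(Cfsg.Lie.G2 (ZMod p)) => ((u : GL (Fin 8) (ZMod p)) : Matrix (Fin 8) (Fin 8) (ZMod p))) h1
  have h3 : Is (h * g) (N * M) := hh.mul hg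
  have h4 : Is (g * h) (M * N) := hg.mul hh
  rw [Subgroup.coe_mul _ (g * h * g⁻¹ * h⁻¹) (h * g), Units.val_mul] at h2
  unfold Is at h3 h4
  rw [h4, h3, ← e, map_mul (red p) E (N * M)] at h2
  unfold Is
  have h5 : red p (N * M) = (((h * g : ↥(Cfsg.Lie.G2 (ZMod p))) : GL (Fin 8) (ZMod p)) : Matrix (Fin 8) (Fin 8) (ZMod p)) :=
    h3.symm
  rw [h5] at h2
  exact (Units.mul_left_inj _).mp h2

theorem Is.pow (hodd : Odd p) {g : ↥(Cfsg.Lie.G2 (ZMod p))} {M : Matrix (Fin 8) (Fin 8) ℤ} (hg : Is g M)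
    (h : (M - 1) * (M - 1) * (M - 1) = 0) : g ^ p = 1 := by
  have hpp : p.Prime := Fact.out
  apply Subtype.ext
  apply Units.ext
  rw [Subgroup.coe_pow, Units.val_pow_eq_pow_val, Subgroup.coe_one, Units.val_one, hg]
  set A : Matrix (Fin 8) (Fin 8) (ZMod p) := red p M with hA
  have h1 : (A - 1) * (A - 1) * (A - 1) = 0 := by
    have := congrArg (red p) h
    rw [map_mul, map_mul, map_sub, map_one, map_zero] at this
    exact this
  have h2 : A = 1 + (A - 1) := by abel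
  rw [h2, one_add_pow_of_cube _ h1]
  have h3 : ((p : ℕ) : Matrix (Fin 8) (Fin 8) (ZMod p)) = 0 := CharP.cast_eq_zero _ p
  have h4 : ((p.choose 2 : ℕ) : Matrix (Fin 8) (Fin 8) (ZMod p)) = 0 := by
    rw [CharP.cast_eq_zero_iff (Matrix (Fin 8) (Fin 8) (ZMod p)) p]
    refine hpp.dvd_choose_self (by norm_num) ?_
    have := hpp.two_le
    rcases this.eq_or_lt with h | h
    · rw [← h] at hodd
      exact absurd hodd (by decide)
    · exact h
  rw [h3, h4, zero_mul, zero_mul, add_zero, add_zero]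

end Cfsg.Agent.H744.G2T

namespace Cfsg.Agent.H744

open Cfsg.Agent.H744.G2T Cfsg.Agent.H638.G2Link Cfsg.Agent.H638.G2Rep

theorem g2_target (p : ℕ) [Fact p.Prime] (hp : 5 ≤ p) :
    (∃ x y e k a z : ↥(Cfsg.Lie.G2 (ZMod p)), z ≠ 1 ∧ Cfsg.Agent.H764.RelG p x y e k a z) ∧
      ∃ m : ℕ, Nat.card ↥(Cfsg.Lie.G2 (ZMod p)) = p ^ 6 * m ∧ ¬ p ∣ m := by
  have hpp : p.Prime := Fact.out
  have hodd : Odd p := hpp.odd_of_ne_two (by omega)
  refine ⟨?_, ?_⟩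
  · let x : ↥(Cfsg.Lie.G2 (ZMod p)) := ⟨yG i2 (6 : ZMod p), yG_mem i2 _⟩
    let y : ↥(Cfsg.Lie.G2 (ZMod p)) := ⟨yG i10 (1 : ZMod p), yG_mem i10 _⟩ * ⟨yG i3 (-6 : ZMod p), yG_mem i3 _⟩
    have hx : Is x mX := by
      have h := ev_red (R := ZMod p) 6 (Y i2)
      rw [evX] at h
      refine Eq.trans ?_ h.symm
      change ev (6 : ZMod p) (Y i2) = _
      norm_num
    have hy : Is y mY := by
      rw [← mulY]
      refine Is.mul ?_ ?_
      · have h := ev_red (R := ZMod p) 1 (Y i10)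
        rw [evY10] at h
        refine Eq.trans ?_ h.symm
        change ev (1 : ZMod p) (Y i10) = _
        norm_num
      · have h := ev_red (R := ZMod p) (-6) (Y i3)
        rw [evY3] at h
        refine Eq.trans ?_ h.symm
        change ev (-6 : ZMod p) (Y i3) = _
        norm_num
    let e := x * y * x⁻¹ * y⁻¹
    have he : Is e mE := hx.comm hy relE
    let k := x * e * x⁻¹ * e⁻¹
    have hk : Is k mK := hx.comm he relK
    let a := x * k * x⁻¹ * k⁻¹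
    have ha : Is a mA := hx.comm hk relA
    let z := y * a * y⁻¹ * a⁻¹
    have hz : Is z mZ := hy.comm ha relZ
    refine ⟨x, y, e, k, a, z, ?_, ?_⟩
    · intro h1
      have h2 : Is (1 : ↥(Cfsg.Lie.G2 (ZMod p))) mZ := h1 ▸ hz
      have h3 := congrFun (congrFun h2 1) 2
      have h4 : (((1 : ↥(Cfsg.Lie.G2 (ZMod p))) : GL (Fin 8) (ZMod p)) : Matrix (Fin 8) (Fin 8) (ZMod p)) 1 2 = 0 :=
        Matrix.one_apply_ne (by decide)
      have h5 : red p mZ 1 2 = ((1296 : ℤ) : ZMod p) := rfl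
      rw [h4, h5] at h3
      have h6 : ((1296 : ℕ) : ZMod p) = 0 := by
        rw [h3]; norm_num
      rw [CharP.cast_eq_zero_iff (ZMod p) p] at h6
      have h7 : p ∣ 6 ^ 4 := by norm_num; exact h6
      have h8 : p ∣ 6 := hpp.dvd_of_dvd_pow h7
      have h9 : p ∣ 2 * 3 := h8
      rcases hpp.dvd_mul.mp h9 with h | h
      · have := Nat.le_of_dvd (by norm_num) h; omega
      · have := Nat.le_of_dvd (by norm_num) h; omega
    · exact
        { x_pow := hx.pow hodd n_x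
          y_pow := hy.pow hodd n_y
          e_pow := he.pow hodd n_e
          k_pow := hk.pow hodd n_k
          a_pow := ha.pow hodd n_a
          z_pow := hz.pow hodd n_z
          xy := by simp only [e]; group
          xe := by simp only [k]; group
          xk := by simp only [a]; group
          xa := (hx.mul ha).eq (ha.mul hx) c_xa
          xz := (hx.mul hz).eq (hz.mul hx) c_xz
          yz := (hy.mul hz).eq (hz.mul hy) c_yz
          ez := (he.mul hz).eq (hz.mul he) c_ez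
          kz := (hk.mul hz).eq (hz.mul hk) c_kz
          az := (ha.mul hz).eq (hz.mul ha) c_az
          ye := (hy.mul he).eq (he.mul hy) c_ye
          yk := by
            rw [mul_inv_eq_iff_eq_mul]
            exact (hy.mul hk).eq ((hz.mul hk).mul hy) r_yk
          ya := by simp only [z]; group
          ek := ek_of ((hz.mul (he.mul hk)).eq (hk.mul he) r_ek)
          ea := (he.mul ha).eq (ha.mul he) c_ea
          ka := (hk.mul ha).eq (ha.mul hk) c_ka }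
  · refine ⟨(p ^ 2 - 1) * (p ^ 6 - 1), ?_, ?_⟩
    · rw [Cfsg.Agent.H638.G2Iso.card_G2, Nat.card_zmod, mul_assoc]
    · have hcop : ∀ n : ℕ, 0 < n → ¬ p ∣ p ^ n - 1 := by
        intro n hn hd
        have h1 : p ∣ p ^ n := dvd_pow_self p hn.ne'
        have h2 : p ^ n = (p ^ n - 1) + 1 := (Nat.sub_add_cancel (Nat.one_le_pow _ _ hpp.pos)).symm
        rw [h2] at h1
        exact hpp.one_lt.ne' (Nat.dvd_one.mp ((Nat.dvd_add_right hd).mp h1))
      intro hd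
      rcases hpp.dvd_mul.mp hd with hd | hd
      · exact hcop 2 (by norm_num) hd
      · exact hcop 6 (by norm_num) hd

end Cfsg.Agent.H744
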