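import Cfsg.Agent.H764.Rel
import Cfsg.Agent.S0242

/-!
# The relations `Rel4` in `SL₄(p)` (target for S5177, task 9)
-/

set_option autoImplicit false

namespace Cfsg.Agent.H744

open Matrix

/-- If `N * N = 0` then `(1 + N) ^ n = 1 + n • N`. -/
theorem one_add_pow_of_sq {R : Type*} [Ring R] (N : R) (h : N * N = 0) (n : ℕ) :
    (1 + N) ^ n = 1 + (n : R) * N := by
  induction n with
  | zero => simp
  | succ n ih =>
    rw [pow_succ, ih]
    have : (1 + (n : R) * N) * (1 + N) = 1 + ((n : R) + 1) * N + (n : R) * (N * N) := by noncomm_ring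
    rw [this, h, mul_zero, add_zero, Nat.cast_succ]

/-- If `N * N * N = 0` and `p` is odd with `(p : R) = 0` then `(1 + N) ^ p = 1`. -/
theorem one_add_pow_of_cube {R : Type*} [Ring R] (N : R) (h : N * N * N = 0) (n : ℕ) :
    (1 + N) ^ n = 1 + (n : R) * N + (n.choose 2 : R) * (N * N) := by
  induction n with
  | zero => simp
  | succ n ih =>
    rw [pow_succ, ih]
    have e : (n + 1).choose 2 = n + n.choose 2 := by
      rw [Nat.choose_succ_succ' n 1, Nat.choose_one_right]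
    rw [e, Nat.cast_add, Nat.cast_succ]
    have : (1 + (n : R) * N + (n.choose 2 : R) * (N * N)) * (1 + N) =
        1 + ((n : R) + 1) * N + ((n : R) + (n.choose 2 : R)) * (N * N) + (n.choose 2 : R) * (N * N * N) := by
      noncomm_ring
    rw [this, h, mul_zero, add_zero, Nat.cast_zero, zero_add, Nat.cast_add]

/-- `SL₄(ℤ)` element from a matrix. -/
def sl4 (M : Matrix (Fin 4) (Fin 4) ℤ) (h : M.det = 1) : SpecialLinearGroup (Fin 4) ℤ := ⟨M, h⟩

def mx : SpecialLinearGroup (Fin 4) ℤ := ⟨!![1,0,0,0; 0,1,1,0; 0,0,1,0; 0,0,0,1], by decide⟩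
def my1 : SpecialLinearGroup (Fin 4) ℤ := ⟨!![1,1,0,0; 0,1,0,0; 0,0,1,0; 0,0,0,1], by decide⟩
def my2 : SpecialLinearGroup (Fin 4) ℤ := ⟨!![1,0,0,0; 0,1,0,0; 0,0,1,-1; 0,0,0,1], by decide⟩
def mu1 : SpecialLinearGroup (Fin 4) ℤ := ⟨!![1,0,1,0; 0,1,0,0; 0,0,1,0; 0,0,0,1], by decide⟩
def mu2 : SpecialLinearGroup (Fin 4) ℤ := ⟨!![1,0,0,0; 0,1,0,1; 0,0,1,0; 0,0,0,1], by decide⟩
def mz : SpecialLinearGroup (Fin 4) ℤ := ⟨!![1,0,0,1; 0,1,0,0; 0,0,1,0; 0,0,0,1], by decide⟩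

theorem sl_ext {R : Type*} [CommRing R] {n : ℕ} {A B : SpecialLinearGroup (Fin n) R}
    (h : (A : Matrix (Fin n) (Fin n) R) = (B : Matrix (Fin n) (Fin n) R)) : A = B := Subtype.ext h

theorem map_pow_one (p : ℕ) [Fact p.Prime] (g : SpecialLinearGroup (Fin 4) ℤ)
    (h : ((g : Matrix (Fin 4) (Fin 4) ℤ) - 1) * ((g : Matrix (Fin 4) (Fin 4) ℤ) - 1) = 0) :
    (SpecialLinearGroup.map (n := Fin 4) (Int.castRingHom (ZMod p)) g) ^ p = 1 := by
  set A : Matrix (Fin 4) (Fin 4) (ZMod p) := (Int.castRingHom (ZMod p)).mapMatrix (g : Matrix (Fin 4) (Fin 4) ℤ) with hA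
  have h0 : ((SpecialLinearGroup.map (n := Fin 4) (Int.castRingHom (ZMod p)) g :
      SpecialLinearGroup (Fin 4) (ZMod p)) : Matrix (Fin 4) (Fin 4) (ZMod p)) = A := rfl
  refine sl_ext ((Matrix.SpecialLinearGroup.coe_pow _ p).trans (Eq.trans ?_ Matrix.SpecialLinearGroup.coe_one.symm))
  change A ^ p = 1
  have h1 : (A - 1) * (A - 1) = 0 := by
    have := congrArg (Int.castRingHom (ZMod p)).mapMatrix h
    rw [map_mul, map_sub, map_one, map_zero] at this
    exact this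
  have h2 : A = 1 + (A - 1) := by abel
  rw [h2, one_add_pow_of_sq _ h1]
  have : ((p : ℕ) : Matrix (Fin 4) (Fin 4) (ZMod p)) = 0 := by
    exact CharP.cast_eq_zero _ p
  rw [this, zero_mul, add_zero]

theorem sl4_target (p : ℕ) [Fact p.Prime] (hp : Odd p) :
    (∃ x u1 u2 z y1 y2 : Matrix.SpecialLinearGroup (Fin 4) (ZMod p), z ≠ 1 ∧
        Cfsg.Agent.H764.Rel4 p 0 1 0 x u1 u2 z y1 y2) ∧
      ∃ m : ℕ, Nat.card (Matrix.SpecialLinearGroup (Fin 4) (ZMod p)) = p ^ 6 * m ∧ ¬ p ∣ m := by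
  have hpp : p.Prime := Fact.out
  refine ⟨?_, ?_⟩
  · let φ := SpecialLinearGroup.map (n := Fin 4) (Int.castRingHom (ZMod p))
    have c : ∀ a b : SpecialLinearGroup (Fin 4) ℤ,
        (a : Matrix (Fin 4) (Fin 4) ℤ) = (b : Matrix (Fin 4) (Fin 4) ℤ) → φ a = φ b :=
      fun a b h => by rw [sl_ext h]
    refine ⟨φ mx, φ mu1, φ mu2, φ mz, φ my1, φ my2, ?_, ?_⟩
    · intro h
      have h1 := congrArg (fun g : SpecialLinearGroup (Fin 4) (ZMod p) => (g : Matrix (Fin 4) (Fin 4) (ZMod p)) 0 3) h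
      have h2 : ((φ mz : SpecialLinearGroup (Fin 4) (ZMod p)) : Matrix (Fin 4) (Fin 4) (ZMod p)) 0 3 =
          ((1 : ℤ) : ZMod p) := rfl
      have h3 : ((1 : SpecialLinearGroup (Fin 4) (ZMod p)) : Matrix (Fin 4) (Fin 4) (ZMod p)) 0 3 = 0 := by
        exact Matrix.one_apply_ne (by decide)
      have h4 : ((1 : ℤ) : ZMod p) = 0 := h2.symm.trans (h1.trans h3)
      rw [Int.cast_one] at h4
      exact one_ne_zero h4
    · refine ⟨map_pow_one p _ (by decide), map_pow_one p _ (by decide), map_pow_one p _ (by decide),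
        map_pow_one p _ (by decide), map_pow_one p _ (by decide), map_pow_one p _ (by decide),
        ?_, ?_, ?_, ?_, ?_, ?_, ?_, ?_, ?_, ?_, ?_, ?_, ?_, ?_, ?_⟩
      all_goals
        try rw [mul_inv_eq_iff_eq_mul]
        try rw [zpow_zero]
        try rw [zpow_one]
        try rw [mul_one]
        simp only [← map_mul]
        apply c
        decide
  · have h := Cfsg.Agent.S0242.result (F := ZMod p) (q := p) (ZMod.card p) 4 (by norm_num)
    refine ⟨(p ^ 4 - 1) * (p ^ 3 - 1) * (p ^ 2 - 1), ?_, ?_⟩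
    · have hp1 : 0 < p - 1 := Nat.sub_pos_of_lt hpp.one_lt
      apply Nat.eq_of_mul_eq_mul_left hp1
      rw [h]
      simp only [Fin.prod_univ_four]
      obtain ⟨k, rfl⟩ : ∃ k, p = k + 1 := ⟨p - 1, (Nat.sub_add_cancel hpp.one_le).symm⟩
      have e1 : (k + 1) ^ 4 - (k + 1) ^ ((0 : Fin 4) : ℕ) = (k + 1) ^ 4 - 1 := by simp
      have e2 : (k + 1) ^ 4 - (k + 1) ^ ((1 : Fin 4) : ℕ) = (k + 1) * ((k + 1) ^ 3 - 1) := by
        rw [Nat.mul_sub]; simp only [Fin.val_one, pow_one, mul_one]; congr 1; ring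
      have e3 : (k + 1) ^ 4 - (k + 1) ^ ((2 : Fin 4) : ℕ) = (k + 1) ^ 2 * ((k + 1) ^ 2 - 1) := by
        rw [Nat.mul_sub]; simp only [Fin.val_two, mul_one]; congr 1; ring
      have e4 : (k + 1) ^ 4 - (k + 1) ^ ((3 : Fin 4) : ℕ) = (k + 1) ^ 3 * ((k + 1) - 1) := by
        rw [Nat.mul_sub]; simp only [mul_one]; congr 1
      rw [e1, e2, e3, e4]
      ring
    · have hcop : ∀ n : ℕ, 0 < n → ¬ p ∣ p ^ n - 1 := by
        intro n hn hd
        have h1 : p ∣ p ^ n := dvd_pow_self p hn.ne'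
        have h2 : p ^ n = (p ^ n - 1) + 1 := (Nat.sub_add_cancel (Nat.one_le_pow _ _ hpp.pos)).symm
        rw [h2] at h1
        exact hpp.one_lt.ne' (Nat.dvd_one.mp ((Nat.dvd_add_right hd).mp h1))
      intro hd
      rcases hpp.dvd_mul.mp hd with hd | hd
      · rcases hpp.dvd_mul.mp hd with hd | hd
        · exact hcop 4 (by norm_num) hd
        · exact hcop 3 (by norm_num) hd
      · exact hcop 2 (by norm_num) hd

end Cfsg.Agent.H744
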