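import Cfsg.Agent.H744.SL4T
import Cfsg.Agent.S0278

/-!
# The relations `Rel4` in `SU₄(p)` (target for S5177, task 10)
-/

set_option autoImplicit false

namespace Cfsg.Agent.H744.SU4T

open Matrix

/-- `SL₄(K)` -/
abbrev SL (K : Type*) [Field K] := Matrix.SpecialLinearGroup (Fin 4) K

variable {K : Type*} [Field K]

/-- upper right block `[[a, s], [-t, b]]`. -/
def bm (a s t b : K) : Matrix (Fin 4) (Fin 4) K := !![1, 0, a, s; 0, 1, -t, b; 0, 0, 1, 0; 0, 0, 0, 1]

/-- Levi elements. -/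
def ym (s t : K) : Matrix (Fin 4) (Fin 4) K := !![1, s, 0, 0; 0, 1, 0, 0; 0, 0, 1, 0; 0, 0, -t, 1]

theorem det_bm (a s t b : K) : (bm a s t b).det = 1 := by
  simp [bm, Matrix.det_succ_row_zero, Fin.sum_univ_succ, Fin.succAbove]

theorem det_ym (s t : K) : (ym s t).det = 1 := by
  simp [ym, Matrix.det_succ_row_zero, Fin.sum_univ_succ, Fin.succAbove]

def B (a s t b : K) : SL K := ⟨bm a s t b, det_bm a s t b⟩
def Y (s t : K) : SL K := ⟨ym s t, det_ym s t⟩

theorem B_mul (a s t b a' s' t' b' : K) : B a s t b * B a' s' t' b' = B (a + a') (s + s') (t + t') (b + b') := by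
  apply sl_ext
  change bm a s t b * bm a' s' t' b' = bm (a + a') (s + s') (t + t') (b + b')
  ext i j
  fin_cases i <;> fin_cases j <;> simp [bm, Matrix.mul_apply, Fin.sum_univ_succ] <;> ring

theorem Y_mul (s t s' t' : K) : Y s t * Y s' t' = Y (s + s') (t + t') := by
  apply sl_ext
  change ym s t * ym s' t' = ym (s + s') (t + t')
  ext i j
  fin_cases i <;> fin_cases j <;> simp [ym, Matrix.mul_apply, Fin.sum_univ_succ] <;> ring

theorem Y_B (s t a r u b : K) : Y s t * B a r u b =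
    B (a + s * t * b + r * t - s * u) (r + s * b) (u - t * b) b * Y s t := by
  apply sl_ext
  change ym s t * bm a r u b = bm (a + s * t * b + r * t - s * u) (r + s * b) (u - t * b) b * ym s t
  ext i j
  fin_cases i <;> fin_cases j <;> simp [ym, bm, Matrix.mul_apply, Fin.sum_univ_succ] <;> ring

/-- the isotropic frame and its inverse -/
def mM (c h : K) : Matrix (Fin 4) (Fin 4) K := !![1, 0, h, 0; c, 0, -c * h, 0; 0, 1, 0, h; 0, c, 0, -c * h]
def mW (d h : K) : Matrix (Fin 4) (Fin 4) K := !![h, -d * h, 0, 0; 0, 0, h, -d * h; 1, d, 0, 0; 0, 0, 1, d]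

/-- the Gram matrix of the isotropic frame -/
def mJ : Matrix (Fin 4) (Fin 4) K := !![0, 0, 1, 0; 0, 0, 0, 1; 1, 0, 0, 0; 0, 1, 0, 0]

theorem W_mul_M {c d h : K} (hcd : c * d = -1) (hh : h + h = 1) : mW d h * mM c h = 1 := by
  have e1 : h + -d * h * c = 1 := by linear_combination hh - h * hcd
  have e2 : h * h + -d * h * (-c * h) = 0 := by linear_combination h * h * hcd
  have e3 : (1 : K) + d * c = 0 := by linear_combination hcd
  have e4 : h + d * (-c * h) = 1 := by linear_combination hh - h * hcd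
  ext i j
  fin_cases i <;> fin_cases j <;>
    simp [mW, mM, Matrix.mul_apply, Fin.sum_univ_succ] <;>
    first
    | linear_combination hh - h * hcd
    | linear_combination h * h * hcd
    | linear_combination hcd

/-- conjugation by the frame -/
def psi {c d h : K} (hcd : c * d = -1) (hh : h + h = 1) : SL K →* SL K where
  toFun A := ⟨mM c h * (A : Matrix (Fin 4) (Fin 4) K) * mW d h, by
    have h1 := congrArg Matrix.det (W_mul_M hcd hh)
    rw [Matrix.det_mul, Matrix.det_one] at h1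
    rw [Matrix.det_mul, Matrix.det_mul, A.2, mul_one, mul_comm, h1]⟩
  map_one' := by
    apply sl_ext
    change mM c h * (1 : Matrix (Fin 4) (Fin 4) K) * mW d h = 1
    rw [mul_one, mul_eq_one_comm]
    exact W_mul_M hcd hh
  map_mul' A A' := by
    apply sl_ext
    change mM c h * ((A : Matrix (Fin 4) (Fin 4) K) * (A' : Matrix (Fin 4) (Fin 4) K)) * mW d h =
      (mM c h * (A : Matrix (Fin 4) (Fin 4) K) * mW d h) * (mM c h * (A' : Matrix (Fin 4) (Fin 4) K) * mW d h)
    have h1 := W_mul_M hcd hh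
    calc mM c h * ((A : Matrix (Fin 4) (Fin 4) K) * (A' : Matrix (Fin 4) (Fin 4) K)) * mW d h =
        mM c h * (A : Matrix (Fin 4) (Fin 4) K) * 1 * (A' : Matrix (Fin 4) (Fin 4) K) * mW d h := by
          rw [mul_one]; simp only [Matrix.mul_assoc]
      _ = _ := by rw [← h1]; simp only [Matrix.mul_assoc]

theorem psi_injective {c d h : K} (hcd : c * d = -1) (hh : h + h = 1) : Function.Injective (psi hcd hh) := by
  intro A A' hA
  have h0 : mM c h * (A : Matrix (Fin 4) (Fin 4) K) * mW d h = mM c h * (A' : Matrix (Fin 4) (Fin 4) K) * mW d h :=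
    congrArg (fun g : SL K => (g : Matrix (Fin 4) (Fin 4) K)) hA
  have h1 := W_mul_M hcd hh
  apply sl_ext
  calc (A : Matrix (Fin 4) (Fin 4) K) = (mW d h * mM c h) * (A : Matrix (Fin 4) (Fin 4) K) * (mW d h * mM c h) := by
        rw [h1, one_mul, mul_one]
    _ = mW d h * (mM c h * (A : Matrix (Fin 4) (Fin 4) K) * mW d h) * mM c h := by simp only [Matrix.mul_assoc]
    _ = mW d h * (mM c h * (A' : Matrix (Fin 4) (Fin 4) K) * mW d h) * mM c h := by rw [h0]
    _ = (mW d h * mM c h) * (A' : Matrix (Fin 4) (Fin 4) K) * (mW d h * mM c h) := by simp only [Matrix.mul_assoc]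
    _ = _ := by rw [h1, one_mul, mul_one]

/-- membership in `SU₄`: the matrix criterion. -/
theorem mem_SU {p : ℕ} [CharP K p] [Fact p.Prime] (A : SL K)
    (h : (A : Matrix (Fin 4) (Fin 4) K)ᵀ * (A : Matrix (Fin 4) (Fin 4) K).map (frobenius K p) = 1) :
    A ∈ Cfsg.SU 4 K p := by
  intro u v
  have key : ∀ a b : Fin 4 → K, Cfsg.hermForm 4 K p a b = a ⬝ᵥ (fun i => frobenius K p (b i)) := by
    intro a b; rfl
  have hv : (fun i => frobenius K p (((A : Matrix (Fin 4) (Fin 4) K) *ᵥ v) i)) =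
      ((A : Matrix (Fin 4) (Fin 4) K).map (frobenius K p)) *ᵥ (fun i => frobenius K p (v i)) := by
    ext i
    exact RingHom.map_mulVec (frobenius K p) _ v i
  rw [key, key]
  change ((A : Matrix (Fin 4) (Fin 4) K) *ᵥ u) ⬝ᵥ (fun i => frobenius K p (((A : Matrix (Fin 4) (Fin 4) K) *ᵥ v) i)) = _
  rw [hv, Matrix.dotProduct_mulVec, ← Matrix.mulVec_transpose, Matrix.mulVec_mulVec]
  have h2 : ((A : Matrix (Fin 4) (Fin 4) K).map (frobenius K p))ᵀ * (A : Matrix (Fin 4) (Fin 4) K) = 1 := by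
    have := congrArg Matrix.transpose h
    rwa [Matrix.transpose_mul, Matrix.transpose_transpose, Matrix.transpose_one] at this
  rw [h2, Matrix.one_mulVec]

theorem psi_mem {p : ℕ} [CharP K p] [Fact p.Prime] {c d h : K} (hcd : c * d = -1) (hh : h + h = 1)
    (hc : frobenius K p c = d) (hd : frobenius K p d = c) (hfh : frobenius K p h = h) (A : SL K)
    (hA : (A : Matrix (Fin 4) (Fin 4) K)ᵀ * mJ * (A : Matrix (Fin 4) (Fin 4) K).map (frobenius K p) = mJ) :
    psi hcd hh A ∈ Cfsg.SU 4 K p := by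
  apply mem_SU
  set f := frobenius K p
  change (mM c h * (A : Matrix (Fin 4) (Fin 4) K) * mW d h)ᵀ *
    (mM c h * (A : Matrix (Fin 4) (Fin 4) K) * mW d h).map f = 1
  have hM : (mM c h).map f = mM d h := by
    ext i j
    fin_cases i <;> fin_cases j <;> simp [mM, hc, hfh]
  have hW : (mW d h).map f = mW c h := by
    ext i j
    fin_cases i <;> fin_cases j <;> simp [mW, hd, hfh]
  have hJ : (mM c h)ᵀ * mM d h = mJ := by
    ext i j
    fin_cases i <;> fin_cases j <;>
      simp [mM, mJ, Matrix.mul_apply, Fin.sum_univ_succ] <;>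
      first
      | linear_combination hh - h * hcd
      | linear_combination h * h * hcd
      | linear_combination hcd
  have hJ2 : (mW d h)ᵀ * mJ * mW c h = 1 := by
    ext i j
    fin_cases i <;> fin_cases j <;>
      simp [mW, mJ, Matrix.mul_apply, Fin.sum_univ_succ] <;>
      first
      | linear_combination hh
      | linear_combination hh - h * hcd
      | linear_combination hh - 2 * h * hcd
      | ring
  rw [Matrix.map_mul, Matrix.map_mul, hM, hW, Matrix.transpose_mul, Matrix.transpose_mul]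
  calc (mW d h)ᵀ * ((A : Matrix (Fin 4) (Fin 4) K)ᵀ * (mM c h)ᵀ) *
        (mM d h * (A : Matrix (Fin 4) (Fin 4) K).map f * mW c h) =
      (mW d h)ᵀ * ((A : Matrix (Fin 4) (Fin 4) K)ᵀ * ((mM c h)ᵀ * mM d h) *
        (A : Matrix (Fin 4) (Fin 4) K).map f) * mW c h := by simp only [Matrix.mul_assoc]
    _ = 1 := by rw [hJ, hA, hJ2]

/-! ### field facts -/

section field

variable [Fintype K] {p : ℕ} [CharP K p] [Fact p.Prime]

theorem frob_frob (hK : Fintype.card K = p ^ 2) (a : K) : frobenius K p (frobenius K p a) = a := by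
  rw [frobenius_def, frobenius_def, ← pow_mul, ← pow_two, ← hK, FiniteField.pow_card]

theorem exists_norm (hK : Fintype.card K = p ^ 2) (hp : Odd p) : ∃ c : K, c * frobenius K p c = -1 := by
  classical
  have hpp : p.Prime := Fact.out
  obtain ⟨g, hg⟩ := IsCyclic.exists_generator (α := Kˣ)
  have hord : orderOf g = p ^ 2 - 1 := by
    rw [orderOf_eq_card_of_forall_mem_zpowers hg, Nat.card_eq_fintype_card, Fintype.card_units, hK]
  obtain ⟨k, hk⟩ := hp
  have hk1 : 1 ≤ k := by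
    have := hpp.two_le
    omega
  refine ⟨((g ^ k : Kˣ) : K), ?_⟩
  rw [frobenius_def]
  have e1 : ((g ^ k : Kˣ) : K) * ((g ^ k : Kˣ) : K) ^ p = (((g ^ (k * (p + 1))) : Kˣ) : K) := by
    push_cast
    ring
  rw [e1]
  set t : K := (((g ^ (k * (p + 1))) : Kˣ) : K) with ht
  have h1 : t ^ 2 = 1 := by
    rw [ht, ← Units.val_pow_eq_pow_val, ← pow_mul]
    have : k * (p + 1) * 2 = (p ^ 2 - 1) := by
      rw [hk]
      have : (2 * k + 1) ^ 2 - 1 = 4 * k * k + 4 * k := by
        have : (2 * k + 1) ^ 2 = (4 * k * k + 4 * k) + 1 := by ring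
        omega
      rw [this]; ring
    rw [this, ← hord, pow_orderOf_eq_one, Units.val_one]
  have h2 : t ≠ 1 := by
    intro h
    have h3 : g ^ (k * (p + 1)) = 1 := Units.ext h
    have h4 : orderOf g ∣ k * (p + 1) := orderOf_dvd_of_pow_eq_one h3
    rw [hord] at h4
    have h5 := Nat.le_of_dvd (Nat.mul_pos hk1 (Nat.succ_pos _)) h4
    have h6 : p ^ 2 - 1 = 2 * (k * (p + 1)) := by
      rw [hk]
      have : (2 * k + 1) ^ 2 = (4 * k * k + 4 * k) + 1 := by ring
      rw [this, Nat.add_sub_cancel]; ring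
    rw [h6] at h5
    have h7 : 0 < k * (p + 1) := Nat.mul_pos hk1 (Nat.succ_pos p)
    generalize k * (p + 1) = w at h5 h7
    omega
  have h3 : (t - 1) * (t + 1) = 0 := by linear_combination h1
  rcases mul_eq_zero.mp h3 with h | h
  · exact absurd (sub_eq_zero.mp h) h2
  · exact eq_neg_of_add_eq_zero_left h

theorem exists_sqrt (hK : Fintype.card K = p ^ 2) (hp : Odd p) (δ : ℤ) (hδ : ¬ IsSquare (δ : ZMod p)) :
    ∃ η : K, η * η = (δ : K) ∧ frobenius K p η = -η := by
  classical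
  have hpp : p.Prime := Fact.out
  have hp2 : p ≠ 2 := by rintro rfl; exact absurd hp (by decide)
  let f : ZMod p →+* K := ZMod.castHom (dvd_refl p) K
  have hδ0 : (δ : ZMod p) ≠ 0 := by
    rintro h
    exact hδ ⟨0, by rw [h]; ring⟩
  have hh : (δ : ZMod p) ^ (p / 2) = -1 := by
    rcases ZMod.pow_div_two_eq_neg_one_or_one p hδ0 with h | h
    · exact absurd ((ZMod.euler_criterion p hδ0).mpr h) hδ
    · exact h
  have hfδ : f (δ : ZMod p) = (δ : K) := map_intCast f δ
  have hK0 : (δ : K) ≠ 0 := by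
    rw [← hfδ]
    exact (map_ne_zero f).mpr hδ0
  have hpow : (δ : K) ^ (p / 2) = -1 := by
    rw [← hfδ, ← map_pow, hh, map_neg, map_one]
  obtain ⟨k, hk⟩ := hp
  have hdiv : p / 2 = k := by omega
  have hsq : IsSquare (δ : K) := by
    have hKchar : ringChar K ≠ 2 := by
      rw [ringChar.eq K p]; exact hp2
    rw [FiniteField.isSquare_iff hKchar hK0, hK]
    have e : p ^ 2 / 2 = k * (2 * (k + 1)) := by
      rw [hk]
      have : (2 * k + 1) ^ 2 = 2 * (k * (2 * (k + 1))) + 1 := by ring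
      omega
    rw [e, pow_mul, ← hdiv, hpow, pow_mul, neg_one_sq, one_pow]
  obtain ⟨η, hη⟩ := hsq
  refine ⟨η, hη.symm, ?_⟩
  rw [frobenius_def]
  have e : p = 2 * k + 1 := hk
  calc η ^ p = η ^ (2 * k + 1) := by rw [← e]
    _ = (η * η) ^ k * η := by ring
    _ = -η := by rw [← hη, ← hdiv, hpow]; ring

end field

/-- elements with `(A - 1)² = 0` have order dividing `p`. -/
theorem pow_one {p : ℕ} [CharP K p] (A : SL K)
    (h : ((A : Matrix (Fin 4) (Fin 4) K) - 1) * ((A : Matrix (Fin 4) (Fin 4) K) - 1) = 0) : A ^ p = 1 := by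
  refine sl_ext ((Matrix.SpecialLinearGroup.coe_pow _ p).trans (Eq.trans ?_ Matrix.SpecialLinearGroup.coe_one.symm))
  set N : Matrix (Fin 4) (Fin 4) K := (A : Matrix (Fin 4) (Fin 4) K) with hN
  have h2 : N = 1 + (N - 1) := by abel
  rw [h2, one_add_pow_of_sq _ h]
  have : ((p : ℕ) : Matrix (Fin 4) (Fin 4) K) = 0 := CharP.cast_eq_zero _ p
  rw [this, zero_mul, add_zero]

theorem B_pow {p : ℕ} [CharP K p] (a s t b : K) : B a s t b ^ p = 1 := by
  apply pow_one
  change (bm a s t b - 1) * (bm a s t b - 1) = 0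
  have e : bm a s t b - 1 = !![0, 0, a, s; 0, 0, -t, b; 0, 0, 0, 0; 0, 0, 0, 0] := by
    ext i j
    fin_cases i <;> fin_cases j <;> simp [bm]
  rw [e]
  ext i j
  fin_cases i <;> fin_cases j <;> simp [Matrix.mul_apply, Fin.sum_univ_succ]

theorem Y_pow {p : ℕ} [CharP K p] (s t : K) : Y s t ^ p = 1 := by
  apply pow_one
  change (ym s t - 1) * (ym s t - 1) = 0
  have e : ym s t - 1 = !![0, s, 0, 0; 0, 0, 0, 0; 0, 0, 0, 0; 0, 0, -t, 0] := by
    ext i j
    fin_cases i <;> fin_cases j <;> simp [ym]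
  rw [e]
  ext i j
  fin_cases i <;> fin_cases j <;> simp [Matrix.mul_apply, Fin.sum_univ_succ]

theorem B_zero : B (0 : K) 0 0 0 = 1 := by
  apply sl_ext
  change bm (0 : K) 0 0 0 = 1
  ext i j
  fin_cases i <;> fin_cases j <;> simp [bm]

/-- the centre as a homomorphism -/
def zh : Multiplicative K →* SL K where
  toFun a := B a.toAdd 0 0 0
  map_one' := B_zero
  map_mul' a b := by rw [B_mul]; simp [toAdd_mul]

theorem B_zpow (a : K) (n : ℤ) : (B a 0 0 0 : SL K) ^ n = B ((n : K) * a) 0 0 0 := by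
  have h : zh (Multiplicative.ofAdd a ^ n) = zh (Multiplicative.ofAdd a) ^ n := map_zpow zh _ _
  rw [← ofAdd_zsmul] at h
  have h1 : zh (Multiplicative.ofAdd (n • a)) = B (n • a) 0 0 0 := rfl
  have h2 : zh (Multiplicative.ofAdd a) = B a 0 0 0 := rfl
  rw [h1, h2, zsmul_eq_mul] at h
  exact h.symm

theorem B_form {p : ℕ} [CharP K p] [Fact p.Prime] {a s t b : K} (ha : frobenius K p a = -a)
    (hs : frobenius K p s = t) (ht : frobenius K p t = s) (hb : frobenius K p b = -b) :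
    ((B a s t b : SL K) : Matrix (Fin 4) (Fin 4) K)ᵀ * mJ *
      ((B a s t b : SL K) : Matrix (Fin 4) (Fin 4) K).map (frobenius K p) = mJ := by
  change (bm a s t b)ᵀ * mJ * (bm a s t b).map (frobenius K p) = mJ
  ext i j
  fin_cases i <;> fin_cases j <;>
    simp [bm, mJ, Matrix.mul_apply, Fin.sum_univ_succ, ha, hs, ht, hb]

theorem Y_form {p : ℕ} [CharP K p] [Fact p.Prime] {s t : K}
    (hs : frobenius K p s = t) (ht : frobenius K p t = s) :
    ((Y s t : SL K) : Matrix (Fin 4) (Fin 4) K)ᵀ * mJ *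
      ((Y s t : SL K) : Matrix (Fin 4) (Fin 4) K).map (frobenius K p) = mJ := by
  change (ym s t)ᵀ * mJ * (ym s t).map (frobenius K p) = mJ
  ext i j
  fin_cases i <;> fin_cases j <;>
    simp [ym, mJ, Matrix.mul_apply, Fin.sum_univ_succ, hs, ht]

end Cfsg.Agent.H744.SU4T

namespace Cfsg.Agent.H744

open Matrix Cfsg.Agent.H744.SU4T

theorem su4_target (p : ℕ) [Fact p.Prime] (hp : Odd p) (δ : ℤ) (hδ : ¬ IsSquare (δ : ZMod p)) :
    ∃ (K : Type) (_ : Field K) (_ : Fintype K), Fintype.card K = p ^ 2 ∧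
      (∃ x u1 u2 z y1 y2 : ↥(Cfsg.SU 4 K p), z ≠ 1 ∧ Cfsg.Agent.H764.Rel4 p 1 0 (-δ) x u1 u2 z y1 y2) ∧
      ∃ m : ℕ, Nat.card ↥(Cfsg.SU 4 K p) = p ^ 6 * m ∧ ¬ p ∣ m := by
  have hpp : p.Prime := Fact.out
  let K := GaloisField p 2
  let _ : Fintype K := Fintype.ofFinite K
  have hK : Fintype.card K = p ^ 2 := by
    rw [← Nat.card_eq_fintype_card]
    exact GaloisField.card p 2 (by norm_num)
  refine ⟨K, inferInstance, inferInstance, hK, ?_, ?_⟩
  · have hp2 : (2 : K) ≠ 0 := by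
      intro h
      have h1 : ((2 : ℕ) : K) = 0 := by exact_mod_cast h
      rw [CharP.cast_eq_zero_iff K p] at h1
      have := (Nat.prime_dvd_prime_iff_eq hpp Nat.prime_two).mp h1
      rw [this] at hp
      exact absurd hp (by decide)
    obtain ⟨c, hc⟩ := exists_norm (K := K) hK hp
    obtain ⟨η, hη, hfη⟩ := exists_sqrt (K := K) hK hp δ hδ
    set σ := frobenius K p with hσ
    have hh : (2 : K)⁻¹ + (2 : K)⁻¹ = 1 := by
      rw [← two_mul, mul_inv_cancel₀ hp2]
    have hfh : σ (2 : K)⁻¹ = (2 : K)⁻¹ := by rw [map_inv₀, map_ofNat]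
    have hcc : σ (σ c) = c := frob_frob hK c
    let Ψ := psi (c := c) (d := σ c) (h := (2 : K)⁻¹) hc hh
    have hmem : ∀ A : SL K, (A : Matrix (Fin 4) (Fin 4) K)ᵀ * mJ * (A : Matrix (Fin 4) (Fin 4) K).map σ = mJ →
        Ψ A ∈ Cfsg.SU 4 K p := fun A hA => psi_mem hc hh rfl hcc hfh A hA
    have hση : σ η = -η := hfη
    have hση' : σ (-η) = η := by rw [map_neg, hση, neg_neg]
    have hσδ : σ (δ : K) = (δ : K) := map_intCast σ δ
    have hx : ((B 0 0 0 η : SL K) : Matrix (Fin 4) (Fin 4) K)ᵀ * mJ *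
        ((B 0 0 0 η : SL K) : Matrix (Fin 4) (Fin 4) K).map σ = mJ :=
      B_form (by simp) (by simp) (by simp) hση
    have hu1 : ((B η η (-η) 0 : SL K) : Matrix (Fin 4) (Fin 4) K)ᵀ * mJ *
        ((B η η (-η) 0 : SL K) : Matrix (Fin 4) (Fin 4) K).map σ = mJ :=
      B_form hση hση hση' (by simp)
    have hu2 : ((B (-(δ : K) * η) (δ : K) (δ : K) 0 : SL K) : Matrix (Fin 4) (Fin 4) K)ᵀ * mJ *
        ((B (-(δ : K) * η) (δ : K) (δ : K) 0 : SL K) : Matrix (Fin 4) (Fin 4) K).map σ = mJ := by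
      refine B_form ?_ hσδ hσδ (by simp)
      change σ (-(δ : K) * η) = _
      rw [map_mul, map_neg, hσδ, hση]; ring
    have hz : ((B (2 * η) 0 0 0 : SL K) : Matrix (Fin 4) (Fin 4) K)ᵀ * mJ *
        ((B (2 * η) 0 0 0 : SL K) : Matrix (Fin 4) (Fin 4) K).map σ = mJ := by
      refine B_form ?_ (by simp) (by simp) (by simp)
      change σ (2 * η) = _
      rw [map_mul, map_ofNat, hση]; ring
    have hy1 : ((Y 1 1 : SL K) : Matrix (Fin 4) (Fin 4) K)ᵀ * mJ *
        ((Y 1 1 : SL K) : Matrix (Fin 4) (Fin 4) K).map σ = mJ := Y_form (by simp) (by simp)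
    have hy2 : ((Y η (-η) : SL K) : Matrix (Fin 4) (Fin 4) K)ᵀ * mJ *
        ((Y η (-η) : SL K) : Matrix (Fin 4) (Fin 4) K).map σ = mJ := Y_form hση hση'
    refine ⟨⟨Ψ (B 0 0 0 η), hmem _ hx⟩, ⟨Ψ (B η η (-η) 0), hmem _ hu1⟩,
      ⟨Ψ (B (-(δ : K) * η) (δ : K) (δ : K) 0), hmem _ hu2⟩, ⟨Ψ (B (2 * η) 0 0 0), hmem _ hz⟩,
      ⟨Ψ (Y 1 1), hmem _ hy1⟩, ⟨Ψ (Y η (-η)), hmem _ hy2⟩, ?_, ?_⟩
    · intro h
      have h1 : Ψ (B (2 * η) 0 0 0) = 1 := congrArg Subtype.val h
      have h2 : Ψ (B (2 * η) 0 0 0) = Ψ 1 := h1.trans (map_one Ψ).symm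
      have h3 : (B (2 * η) 0 0 0 : SL K) = 1 := psi_injective hc hh h2
      have h4 := congrArg (fun g : SL K => (g : Matrix (Fin 4) (Fin 4) K) 0 2) h3
      have h5 : (2 * η : K) = 0 := h4
      have h6 : η ≠ 0 := by
        rintro rfl
        apply hδ
        have h7 : ((δ : ℤ) : K) = 0 := by rw [← hη]; ring
        rw [CharP.intCast_eq_zero_iff K p] at h7
        refine ⟨0, ?_⟩
        rw [(ZMod.intCast_zmod_eq_zero_iff_dvd δ p).mpr h7]; ring
      exact (mul_ne_zero hp2 h6) h5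
    · have cc : ∀ A A' : SL K, A = A' → Ψ A = Ψ A' := fun A A' h => by rw [h]
      refine ⟨?_, ?_, ?_, ?_, ?_, ?_, ?_, ?_, ?_, ?_, ?_, ?_, ?_, ?_, ?_, ?_, ?_, ?_, ?_, ?_, ?_⟩
      · apply Subtype.ext; change Ψ _ ^ p = 1; rw [← map_pow, B_pow, map_one]
      · apply Subtype.ext; change Ψ _ ^ p = 1; rw [← map_pow, B_pow, map_one]
      · apply Subtype.ext; change Ψ _ ^ p = 1; rw [← map_pow, B_pow, map_one]
      · apply Subtype.ext; change Ψ _ ^ p = 1; rw [← map_pow, B_pow, map_one]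
      · apply Subtype.ext; change Ψ _ ^ p = 1; rw [← map_pow, Y_pow, map_one]
      · apply Subtype.ext; change Ψ _ ^ p = 1; rw [← map_pow, Y_pow, map_one]
      · apply Subtype.ext; change Ψ _ * Ψ _ = Ψ _ * Ψ _; simp only [← map_mul]; apply cc
        rw [B_mul, B_mul]; simp only [add_comm]
      · apply Subtype.ext; change Ψ _ * Ψ _ = Ψ _ * Ψ _; simp only [← map_mul]; apply cc
        rw [B_mul, B_mul]; simp only [add_comm]
      · apply Subtype.ext; change Ψ _ * Ψ _ = Ψ _ * Ψ _; simp only [← map_mul]; apply cc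
        rw [B_mul, B_mul]; simp only [add_comm]
      · apply Subtype.ext; change Ψ _ * Ψ _ = Ψ _ * Ψ _; simp only [← map_mul]; apply cc
        rw [B_mul, B_mul]; simp only [add_comm]
      · apply Subtype.ext; change Ψ _ * Ψ _ = Ψ _ * Ψ _; simp only [← map_mul]; apply cc
        rw [B_mul, B_mul]; simp only [add_comm]
      · apply Subtype.ext; change Ψ _ * Ψ _ = Ψ _ * Ψ _; simp only [← map_mul]; apply cc
        rw [B_mul, B_mul]; simp only [add_comm]
      · apply Subtype.ext; change Ψ _ * Ψ _ = Ψ _ * Ψ _; simp only [← map_mul]; apply cc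
        rw [Y_B]; congr 2 <;> ring
      · apply Subtype.ext; change Ψ _ * Ψ _ = Ψ _ * Ψ _; simp only [← map_mul]; apply cc
        rw [Y_B]; congr 2 <;> ring
      · apply Subtype.ext; change Ψ _ * Ψ _ = Ψ _ * Ψ _; simp only [← map_mul]; apply cc
        rw [Y_mul, Y_mul]; congr 1 <;> ring
      · rw [mul_inv_eq_iff_eq_mul]
        apply Subtype.ext; change Ψ _ * Ψ _ = Ψ _ * Ψ _ * Ψ _; simp only [← map_mul]; apply cc
        rw [Y_B, B_mul]; congr 2 <;> ring
      · rw [mul_inv_eq_iff_eq_mul]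
        apply Subtype.ext; change Ψ _ * Ψ _ = Ψ _ * Ψ _ * Ψ _; simp only [← map_mul]; apply cc
        rw [Y_B, B_mul]; congr 2
        · linear_combination (-η) * hη
        · linear_combination hη
        · linear_combination hη
        · ring
      · rw [mul_inv_eq_iff_eq_mul, zpow_one]
        apply Subtype.ext; change Ψ _ * Ψ _ = Ψ _ * Ψ _ * Ψ _; simp only [← map_mul]; apply cc
        rw [Y_B, B_mul]; congr 2 <;> ring
      · rw [mul_inv_eq_iff_eq_mul, zpow_zero, mul_one]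
        apply Subtype.ext; change Ψ _ * Ψ _ = Ψ _ * Ψ _; simp only [← map_mul]; apply cc
        rw [Y_B]; congr 2 <;> ring
      · rw [mul_inv_eq_iff_eq_mul, zpow_zero, mul_one]
        apply Subtype.ext; change Ψ _ * Ψ _ = Ψ _ * Ψ _; simp only [← map_mul]; apply cc
        rw [Y_B]; congr 2 <;> ring
      · rw [mul_inv_eq_iff_eq_mul]
        apply Subtype.ext
        rw [Subgroup.coe_mul, Subgroup.coe_mul, Subgroup.coe_mul, Subgroup.coe_zpow]
        change Ψ _ * Ψ _ = Ψ _ * Ψ _ ^ (-δ) * Ψ _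
        rw [← map_zpow]
        simp only [← map_mul]; apply cc
        rw [Y_B, B_zpow, B_mul]; congr 2
        · push_cast; ring
        · ring
        · ring
        · ring
  · have h := Cfsg.Agent.S0278.result (F := K) (q := p) hK 4 (by norm_num)
    have e : ∏ i ∈ Finset.range 4, (if Even i then p ^ (i + 1) + 1 else p ^ (i + 1) - 1) =
        (p + 1) * (p ^ 2 - 1) * (p ^ 3 + 1) * (p ^ 4 - 1) := by
      rw [Finset.prod_range_succ, Finset.prod_range_succ, Finset.prod_range_succ, Finset.prod_range_one]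
      have h0 : Even 0 := by decide
      have h1 : ¬ Even 1 := by decide
      have h2 : Even 2 := by decide
      have h3 : ¬ Even 3 := by decide
      rw [if_pos h0, if_neg h1, if_pos h2, if_neg h3]
      simp only [zero_add, _root_.pow_one]
    rw [e] at h
    refine ⟨(p ^ 2 - 1) * (p ^ 3 + 1) * (p ^ 4 - 1), ?_, ?_⟩
    · apply Nat.eq_of_mul_eq_mul_left (Nat.succ_pos p)
      rw [Nat.succ_eq_add_one, h]
      have : 4 * (4 - 1) / 2 = 6 := by norm_num
      rw [this]
      ring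
    · have hcop : ∀ n : ℕ, 0 < n → ¬ p ∣ p ^ n - 1 := by
        intro n hn hd
        have h1 : p ∣ p ^ n := dvd_pow_self p hn.ne'
        have h2 : p ^ n = (p ^ n - 1) + 1 := (Nat.sub_add_cancel (Nat.one_le_pow _ _ hpp.pos)).symm
        rw [h2] at h1
        exact hpp.one_lt.ne' (Nat.dvd_one.mp ((Nat.dvd_add_right hd).mp h1))
      have hcop' : ∀ n : ℕ, 0 < n → ¬ p ∣ p ^ n + 1 := by
        intro n hn hd
        have h1 : p ∣ p ^ n := dvd_pow_self p hn.ne'
        exact hpp.one_lt.ne' (Nat.dvd_one.mp ((Nat.dvd_add_right h1).mp hd))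
      intro hd
      rcases hpp.dvd_mul.mp hd with hd | hd
      · rcases hpp.dvd_mul.mp hd with hd | hd
        · exact hcop 2 (by norm_num) hd
        · exact hcop' 3 (by norm_num) hd
      · exact hcop 4 (by norm_num) hd

end Cfsg.Agent.H744
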