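import Mathlib
import Cfsg.Agent.H744.SepRgd
import Cfsg.Agent.H62.PPChev
import Cfsg.Agent.GenExc.TwE
import Cfsg.Agent.H436.Ppd
import Cfsg.Agent.KFacts.RgdFilt
import Cfsg.Agent.S1035
import Cfsg.Agent.S1062
import Cfsg.Agent.S1066

/-!
# Five pairwise apart subgroups in `E₆, E₇, E₈, F₄, ²E₆` (helper744, for S5906, S5907)
-/

set_option autoImplicit false
set_option linter.unusedSectionVars false
set_option linter.unusedVariables false

namespace Cfsg.Agent.H744.SepExc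

open Cfsg.Agent.H940
open CoxeterSystem Cfsg.Agent.ChevalleyStructure.CoxeterGeom Cfsg.Agent.Tits.Roots Cfsg.Agent.Tits.Core
  Cfsg.Agent.Tits.RootComb Cfsg.Agent.Tits.Exchange Cfsg.Agent.Nodes.Reps Cfsg.Agent.Nodes.BNOf
  Cfsg.Agent.Nodes.StabComb Cfsg.Agent.Nodes.Bruhat Cfsg.Agent.Nodes.OppDec Cfsg.Agent.Nodes.LeviDec
  Cfsg.Agent.H436 Cfsg.Agent.H744.SepRgd

universe u

/-! ### the rank five and more: only parabolic subgroups -/

section Chev

open Cfsg.Lie Cfsg.Agent.ChevalleyStructure Cfsg.Agent.Nodes.RGDChev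

theorem sep_chev {D : ChevalleyDatum} {l : ℕ} {M : CoxeterMatrix (Fin l)} (hp : IsType D l M) (K : Type u)
    [Field K] [Finite K] : MaxCls.Sep l ↥(D.group K) := by
  obtain ⟨p, hpK⟩ := CharP.exists K
  have : Fact p.Prime := ⟨CharP.char_is_prime K p⟩
  have hW := finite_W hp M.toCoxeterSystem
  have R := rgd (K := K) hp M.toCoxeterSystem p
  have h1 := sep_of_rgd' R (Cfsg.Agent.KFacts.RgdFilt.GG_eq_top (G1_eq_top hp M.toCoxeterSystem))
  rwa [Fintype.card_fin] at h1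

theorem e6 (F : Type) [Field F] [Fintype F] : MaxCls.Sep 5 ↥(chevE6.group F) :=
  (sep_chev (D := chevE6) (l := 6) (M := CoxeterMatrix.E₆) (by simp [IsType, typeList]) F).mono (by norm_num)

theorem e7 (F : Type) [Field F] [Fintype F] : MaxCls.Sep 5 ↥(chevE7.group F) :=
  (sep_chev (D := chevE7) (l := 7) (M := CoxeterMatrix.E₇) (by simp [IsType, typeList]) F).mono (by norm_num)

theorem e8 (F : Type) [Field F] [Fintype F] : MaxCls.Sep 5 ↥(chevE8.group F) :=
  (sep_chev (D := chevE8) (l := 8) (M := CoxeterMatrix.E₈) (by simp [IsType, typeList]) F).mono (by norm_num)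

end Chev

/-! ### one more subgroup -/

section Tab

variable {W Y : Type*} [Group W] [Group Y] {r : ℕ} {M : CoxeterMatrix (Fin r)}
  {cs : CoxeterSystem M W} {A : Fin r → Fin r → ℤ} {h : IsCartan M A} {p : ℕ} {T : Subgroup Y} {n : Fin r → Y}
  {X : (Fin r → ℤ) → Subgroup Y}

/-- the exponent of `q` in the order of the unipotent part of the Levi subgroup of `J` -/
def ex (rts : List (Fin r → ℤ)) (wt : (Fin r → ℤ) → ℕ) (J : Finset (Fin r)) : ℕ :=
  ((rts.filter fun x => (∀ k, 0 ≤ x k) ∧ ∀ k, k ∉ J → x k = 0).map wt).sum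

/-- `J` is connected -/
def Cn (M : Fin r → Fin r → ℕ) (J : Finset (Fin r)) : Prop :=
  ∀ J₁ ∈ J.powerset, J₁.Nonempty → J₁ ≠ J → ∃ a ∈ J₁, ∃ b ∈ J, b ∉ J₁ ∧ M a b ≠ 2

instance (M : Fin r → Fin r → ℕ) (J : Finset (Fin r)) : Decidable (Cn M J) := by
  unfold Cn; infer_instance

theorem card_UJ (R : RGD cs h p T n X) [Finite W] {q : ℕ} {rts : List (Fin r → ℤ)} {wt : (Fin r → ℤ) → ℕ}
    (hnd : rts.Nodup) (hr : ∀ x, IsRoot cs h x ↔ x ∈ rts) (hX : ∀ x, IsRoot cs h x → Nat.card (X x) = q ^ wt x)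
    (J : Finset (Fin r)) : Nat.card (RGD.Sup X (PosJ cs h (J : Set (Fin r)))) = q ^ ex rts wt J := by
  classical
  set L := rts.filter fun x => (∀ k, 0 ≤ x k) ∧ ∀ k, k ∉ J → x k = 0 with hL
  have hs : ((L.toFinset : Finset (Fin r → ℤ)) : Set (Fin r → ℤ)) = PosJ cs h (J : Set (Fin r)) := by
    ext x
    rw [Finset.mem_coe, List.mem_toFinset, hL, List.mem_filter, ← hr]
    simp only [decide_eq_true_eq]
    exact Iff.rfl
  have h1 := Nodes.CardSup.card_sup R (s := L.toFinset) (by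
    rw [hs]
    exact fun x hx => ⟨hx.1, hx.2.1⟩) (by
    rw [hs]
    exact fun x hx y hy z hz => ⟨hz.1, btwn_nonneg hz hx.2.1 hy.2.1, fun k hk =>
      btwn_apply_zero hz (hx.2.2 k hk) (hy.2.2 k hk)⟩)
  rw [hs] at h1
  rw [h1]
  have h2 : ∏ x ∈ L.toFinset, Nat.card (X x) = ∏ x ∈ L.toFinset, q ^ wt x := by
    refine Finset.prod_congr rfl fun x hx => hX x ?_
    have : x ∈ PosJ cs h (J : Set (Fin r)) := by rw [← hs]; exact hx
    exact this.1
  rw [h2, Finset.prod_pow_eq_pow_sum]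
  congr 1
  unfold ex
  rw [← hL]
  exact List.sum_toFinset wt (hnd.filter _)

/-- **the criterion** -/
theorem sep_of_tab (R : RGD cs h p T n X) [Finite W] [Finite Y] [Fact p.Prime] (hG : GG cs h T X = ⊤)
    {q e u : ℕ} (hu : Prim q e u) (he : 2 ≤ e) (hq : 0 < q) (hpq : p ∣ q) (hT : ¬ u ∣ Nat.card T) (hY : u ∣ Nat.card Y) (hpY : p ∣ Nat.card Y)
    {rts : List (Fin r → ℤ)} {wt : (Fin r → ℤ) → ℕ} (hnd : rts.Nodup) (hr : ∀ x, IsRoot cs h x ↔ x ∈ rts)
    (hX : ∀ x, IsRoot cs h x → Nat.card (X x) = q ^ wt x)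
    (hJ : ∀ J : Finset (Fin r), J.Nonempty → J ≠ Finset.univ → Cn (fun a b => M a b) J →
      (J.card % 2 = 0 ∧ ¬ e ∣ ex rts wt J) ∨ (J.card % 2 = 1 ∧ (¬ e ∣ 2 * ex rts wt J ∨ e ∣ ex rts wt J))) :
    MaxCls.Sep (r + 1) Y := by
  classical
  have hup : u ≠ p := by
    rintro rfl
    exact hu.not_dvd hpq
  have : Fact u.Prime := ⟨hu.prime⟩
  obtain ⟨x, hx⟩ := exists_prime_orderOf_dvd_card' u hY
  have hcard : Nat.card (Subgroup.zpowers x) = u := by rw [Nat.card_zpowers, hx]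
  have h1 := sep_succ_of_rgd' R hG (D := Subgroup.zpowers x) ?_ ?_
  · rwa [Fintype.card_fin] at h1
  · intro htop
    rw [htop, Subgroup.card_top] at hcard
    rw [hcard] at hpY
    exact hup ((Nat.prime_dvd_prime_iff_eq Fact.out hu.prime).1 hpY).symm
  · intro g K hK hle
    refine H396.Crit.not_dvd_card R hu.prime hup hT ?_ hK hle (by rw [hcard])
    intro J hne huniv hconn hd
    rw [card_UJ R hnd hr hX] at hd
    rcases hJ J hne huniv (fun J₁ h1 => hconn J₁ (Finset.mem_powerset.1 h1)) with ⟨h2, h3⟩ | ⟨h2, h3⟩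
    · have h4 : (-1 : ℤ) ^ J.card = 1 := Even.neg_one_pow (Nat.even_iff.2 h2)
      rw [h4] at hd
      apply hu.not_dvd_sub h3
      have h5 : ((q ^ ex rts wt J - 1 : ℕ) : ℤ) = ((q ^ ex rts wt J : ℕ) : ℤ) - 1 := by
        rw [Nat.cast_sub (Nat.one_le_pow _ _ hq), Nat.cast_one]
      rw [← h5] at hd
      exact_mod_cast hd
    · have h4 : (-1 : ℤ) ^ J.card = -1 := Odd.neg_one_pow (Nat.odd_iff.2 h2)
      rw [h4, sub_neg_eq_add] at hd
      have hd' : u ∣ q ^ ex rts wt J + 1 := by exact_mod_cast hd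
      rcases h3 with h3 | h3
      · exact hu.not_dvd_add h3 hd'
      · have h5 := hu.dvd h3
        have h6 : 1 ≤ q ^ ex rts wt J := Nat.one_le_pow _ _ hq
        have h7 : u ∣ (q ^ ex rts wt J + 1) - (q ^ ex rts wt J - 1) := Nat.dvd_sub hd' h5
        have h8 : (q ^ ex rts wt J + 1) - (q ^ ex rts wt J - 1) = 2 := by omega
        rw [h8] at h7
        have h9 := hu.odd he
        have h10 := (Nat.prime_dvd_prime_iff_eq hu.prime Nat.prime_two).1 h7
        omega

end Tab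

/-! ### `F₄` -/

section FFour

open Cfsg.Lie Cfsg.Agent.ChevalleyStructure Cfsg.Agent.Nodes.RGDChev

/-- the roots of `F₄` -/
def rtsF : List (Fin 4 → ℤ) := (List.range 48).map (vec chevF4 4)

theorem rtsF_nodup : rtsF.Nodup := by decide +kernel

theorem nroots_F4 : chevF4.nroots = 48 := by decide +kernel

theorem tabF : ∀ J : Finset (Fin 4), J.Nonempty → J ≠ Finset.univ → Cn (fun a b => CoxeterMatrix.F₄ a b) J →
      (J.card % 2 = 0 ∧ ¬ 12 ∣ ex rtsF (fun _ => 1) J) ∨ (J.card % 2 = 1 ∧ (¬ 12 ∣ 2 * ex rtsF (fun _ => 1) J ∨ 12 ∣ ex rtsF (fun _ => 1) J)) := by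
  decide +kernel

theorem f4 (F : Type) [Field F] [Fintype F] : MaxCls.Sep 5 ↥(chevF4.group F) := by
  obtain ⟨p, hpK⟩ := CharP.exists F
  have hpf : Fact p.Prime := ⟨CharP.char_is_prime F p⟩
  have hp : IsType chevF4 4 CoxeterMatrix.F₄ := by simp [IsType, typeList]
  have hW := finite_W hp CoxeterMatrix.F₄.toCoxeterSystem
  have R := rgd (K := F) hp CoxeterMatrix.F₄.toCoxeterSystem p
  have hG := Cfsg.Agent.KFacts.RgdFilt.GG_eq_top (T := (chevF4.diagonalSubgroup F).subgroupOf (chevF4.group F))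
    (G1_eq_top (K := F) hp CoxeterMatrix.F₄.toCoxeterSystem)
  have hq2 : 2 ≤ Fintype.card F := Fintype.one_lt_card
  obtain ⟨u, hu⟩ := exists_prim (q := Fintype.card F) (e := 12) hq2 (by norm_num) (by omega)
  have hpq : p ∣ Fintype.card F := by
    obtain ⟨n, -, hn⟩ := FiniteField.card F p
    rw [hn]
    exact dvd_pow_self p n.2.ne'
  have hcard := S1062.result (F := F) rfl
  have hTc : Nat.card ↥((chevF4.diagonalSubgroup F).subgroupOf (chevF4.group F)) ∣ (Fintype.card F - 1) ^ 4 := by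
    have h1 := S1035.result (F := F) rfl (chevF4, 1) (by simp)
    have h2 : chevF4.rank = 4 := by decide +kernel
    rw [one_mul] at h1
    have h3 : Nat.card ↥((chevF4.diagonalSubgroup F).subgroupOf (chevF4.group F)) ∣
        Nat.card ↥(chevF4.diagonalSubgroup F) := by
      have h4 := Subgroup.card_comap_dvd_of_injective (chevF4.diagonalSubgroup F)
        (chevF4.group F).subtype (Subgroup.subtype_injective _)
      exact h4
    exact h3.trans (by rw [h1, h2])
  refine sep_of_tab R hG hu (by norm_num) (by omega) hpq ?_ ?_ ?_ rtsF_nodup (fun x => ?_) (wt := fun _ => 1) (fun x hx => ?_) tabF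
  · intro h1
    have h2 := hu.prime.dvd_of_dvd_pow (h1.trans hTc)
    refine hu.not_dvd_sub (m := 1) (by norm_num) ?_
    rwa [pow_one]
  · rw [hcard]
    exact (hu.dvd (dvd_refl 12)).mul_left _
  · rw [hcard]
    exact Dvd.dvd.mul_right (Dvd.dvd.mul_right (Dvd.dvd.mul_right (Dvd.dvd.mul_right
      (hpq.trans (dvd_pow_self _ (by norm_num))) _) _) _) _
  · rw [isRoot_iff hp]
    unfold rtsF
    rw [List.mem_map, nroots_F4]
    constructor
    · rintro ⟨r, h1, h2⟩
      exact ⟨r, List.mem_range.2 h1, h2⟩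
    · rintro ⟨r, h1, h2⟩
      exact ⟨r, List.mem_range.1 h1, h2⟩
  · rw [pow_one]
    exact H62.PPChev.card_X hp _ hx

end FFour

/-! ### `²E₆` -/

section TwE

open Cfsg.Lie Cfsg.Agent.ChevalleyStructure Cfsg.Agent.Nodes.RGDTwE6 Cfsg.Agent.KFacts.TwESix.Comb

/-- the weights -/
def wtE (z : Fin 4 → ℤ) : ℕ := if bf z z = 4 then 1 else 2

theorem rtsE_nodup : rts.Nodup := by decide +kernel

theorem tabE : ∀ J : Finset (Fin 4), J.Nonempty → J ≠ Finset.univ → Cn (fun a b => CoxeterMatrix.F₄ a b) J →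
      (J.card % 2 = 0 ∧ ¬ 12 ∣ ex rts wtE J) ∨ (J.card % 2 = 1 ∧ (¬ 12 ∣ 2 * ex rts wtE J ∨ 12 ∣ ex rts wtE J)) := by
  decide +kernel

theorem te6 (K : Type) [Field K] [Fintype K] (q : ℕ) (hq : IsPrimePow q) (hK : Fintype.card K = q ^ 2) :
    MaxCls.Sep 5 ↥(twistedE6 K q) := by
  obtain ⟨φ, hφ, hqq⟩ := TwE6Basic.exists_frob hq hK
  obtain ⟨p, hpK⟩ := CharP.exists K
  have hpf : Fact p.Prime := ⟨CharP.char_is_prime K p⟩
  have hpq : p ∣ q := by
    have h1 : p ∣ Fintype.card K := by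
      obtain ⟨n, -, h⟩ := FiniteField.card K p
      rw [h]
      exact dvd_pow_self _ n.ne_zero
    rw [hK] at h1
    exact hpf.out.dvd_of_dvd_pow h1
  have hq2 : 2 ≤ q := hq.two_le
  have hW : Finite CoxeterMatrix.F₄.Group := finiteW CoxeterMatrix.F₄.toCoxeterSystem
  have R := rgd CoxeterMatrix.F₄.toCoxeterSystem hφ hqq p
  have hG := Cfsg.Agent.KFacts.RgdFilt.GG_eq_top (T := T K q) (G1_eq_top CoxeterMatrix.F₄.toCoxeterSystem hφ hqq)
  obtain ⟨u, hu⟩ := exists_prim (q := q) (e := 12) hq2 (by norm_num) (by omega)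
  have hcard := S1066.result (K := K) hq hK
  have hTc : Nat.card ↥(T K q) ∣ (Fintype.card K - 1) ^ 6 := by
    have h1 := S1035.result (F := K) rfl (chevE6, Nat.gcd 3 (Fintype.card K - 1)) (by simp)
    have h2 : chevE6.rank = 6 := by decide +kernel
    have h3 : Nat.card ↥(T K q) ∣ Nat.card ↥(chevE6.diagonalSubgroup K) := by
      have h4 := Subgroup.card_comap_dvd_of_injective (chevE6.diagonalSubgroup K ⊓ twistedE6 K q)
        (twistedE6 K q).subtype (Subgroup.subtype_injective _)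
      exact Dvd.dvd.trans h4 (Subgroup.card_dvd_of_le inf_le_left)
    have h5 : Nat.card ↥(chevE6.diagonalSubgroup K) ∣ (Fintype.card K - 1) ^ 6 := by
      have h6 : Nat.gcd 3 (Fintype.card K - 1) * Nat.card ↥(chevE6.diagonalSubgroup K) =
        (Fintype.card K - 1) ^ chevE6.rank := h1
      have h7 : (Fintype.card K - 1) ^ chevE6.rank = (Fintype.card K - 1) ^ 6 := congrArg _ h2
      exact ⟨_, by rw [← h7, ← h6, mul_comm]⟩
    exact h3.trans h5
  have hu3 : ¬ u ∣ Nat.gcd 3 (q + 1) := by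
    intro h1
    refine hu.not_dvd_add (m := 1) (by norm_num) ?_
    rw [pow_one]
    exact h1.trans (Nat.gcd_dvd_right _ _)
  have hp3 : ¬ p ∣ Nat.gcd 3 (q + 1) := by
    intro h1
    have h2 := h1.trans (Nat.gcd_dvd_right _ _)
    have h3 := (Nat.dvd_add_right hpq).1 h2
    exact hpf.out.one_lt.ne' (Nat.dvd_one.1 h3)
  refine sep_of_tab R hG hu (by norm_num) (by omega) hpq ?_ ?_ ?_ rtsE_nodup (fun x => mem_rts _) (wt := wtE)
    (fun x hx => ?_) tabE
  · intro h1
    have h2 := hu.prime.dvd_of_dvd_pow (h1.trans hTc)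
    rw [hK] at h2
    exact hu.not_dvd_sub (m := 2) (by norm_num) h2
  · have h1 : u ∣ Nat.gcd 3 (q + 1) * Nat.card ↥(twistedE6 K q) := by
      rw [hcard]
      exact (hu.dvd (dvd_refl 12)).mul_left _
    exact (hu.prime.dvd_mul.1 h1).resolve_left hu3
  · have h1 : p ∣ Nat.gcd 3 (q + 1) * Nat.card ↥(twistedE6 K q) := by
      rw [hcard]
      simp only [mul_assoc]
      exact Dvd.dvd.mul_right (hpq.trans (dvd_pow_self _ (by norm_num))) _
    exact (hpf.out.dvd_mul.1 h1).resolve_left hp3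
  · exact Cfsg.Agent.GenExc.TwE.card_X hφ hqq p hq2 hK hx

end TwE

end Cfsg.Agent.H744.SepExc
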